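import Groth.Prelude.Def_W4c1arstab1appArSing
import Groth.Agent.H95.NodeSwap
import Mathlib.RingTheory.PowerSeries.Expand

/-!
# The normal form `P(x) + Q(x) y` of elements of `k[[x, y]]/(y^2 - x^(r+1))`
-/

set_option autoImplicit false

noncomputable section

universe u

namespace Groth.Agent.Lib.ArSing99

open MvPowerSeries (substAlgHom)
open Groth.Agent.H95.NodeSwap (hom_ext hom_ext₁)

variable {k : Type u} [Field k] (r : ℕ)

local notation "MPS" => MvPowerSeries (Fin 2) k
local notation "PS" => PowerSeries k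
local notation "A" => ArSing.ring k r

/-- The ideal `(t)` of `k[[t]]`. -/
abbrev tI (k : Type u) [Field k] : Ideal (PowerSeries k) := Ideal.span {PowerSeries.X}

theorem tI_ne_top : tI k ≠ ⊤ := by
  rw [Ne, Ideal.span_singleton_eq_top]
  exact PowerSeries.X_prime.not_isUnit

theorem mem_tI {f : PS} : f ∈ tI k ↔ PowerSeries.constantCoeff f = 0 := by
  rw [Ideal.mem_span_singleton, PowerSeries.X_dvd_iff]

/-- `t ↦ x`, before dividing by the equation. -/
def subX : PS →ₐ[k] MPS :=
  PowerSeries.substAlgHom (PowerSeries.HasSubst.of_constantCoeff_zero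
    (MvPowerSeries.constantCoeff_X (0 : Fin 2) : MvPowerSeries.constantCoeff
      (MvPowerSeries.X (0 : Fin 2) : MPS) = 0))

theorem xMap_apply (P : PS) : ArSing.xMap k r P = Ideal.Quotient.mk _ (subX P) := rfl

theorem coeff_subX (P : PS) (d : Fin 2 →₀ ℕ) :
    MvPowerSeries.coeff d (subX P) = if d 1 = 0 then PowerSeries.coeff (d 0) P else 0 := by
  classical
  rw [subX, PowerSeries.coe_substAlgHom, PowerSeries.coeff_subst
    (PowerSeries.HasSubst.of_constantCoeff_zero (MvPowerSeries.constantCoeff_X _))]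
  split_ifs with h
  · rw [finsum_eq_single _ (d 0)]
    · rw [MvPowerSeries.coeff_X_pow, if_pos, smul_eq_mul, mul_one]
      ext i; fin_cases i <;> simp [h]
    · intro m hm
      rw [MvPowerSeries.coeff_X_pow, if_neg, smul_zero]
      rintro rfl
      simp at hm
  · refine finsum_eq_zero_of_forall_eq_zero fun m => ?_
    rw [MvPowerSeries.coeff_X_pow, if_neg, smul_zero]
    rintro rfl
    simp at h

theorem xMap_X : ArSing.xMap k r PowerSeries.X = ArSing.x k r := by
  rw [xMap_apply, subX, PowerSeries.substAlgHom_X]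

theorem y_sq : ArSing.y k r ^ 2 = ArSing.x k r ^ (r + 1) := by
  rw [ArSing.x, ArSing.y, ← map_pow, ← map_pow, Ideal.Quotient.eq]
  exact Ideal.mem_span_singleton_self _

theorem exists_PQ (z : A) : ∃ P Q : PS, z = ArSing.xMap k r P + ArSing.xMap k r Q * ArSing.y k r := by
  classical
  obtain ⟨f, rfl⟩ := Ideal.Quotient.mk_surjective z
  let c : ℕ → ℕ → k := fun i j => MvPowerSeries.coeff (Finsupp.single 0 i + Finsupp.single 1 j) f
  let h : ℕ → ℕ → k := fun i j => ∑ l ∈ Finset.range (i / (r + 1) + 1), c (i - (r + 1) * l) (j + 2 * l)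
  have hrec : ∀ i j, h i j = c i j + if r + 1 ≤ i then h (i - (r + 1)) (j + 2) else 0 := by
    intro i j
    simp only [h]
    rw [Finset.sum_range_succ', add_comm]
    congr 1
    split_ifs with hi
    · rw [show (i - (r + 1)) / (r + 1) + 1 = i / (r + 1) by
        conv_rhs => rw [← Nat.sub_add_cancel hi, Nat.add_div_right _ (by omega)]]
      refine Finset.sum_congr rfl fun l _ => ?_
      refine congrArg₂ c ?_ ?_ <;> rw [mul_add, mul_one]
      · rw [add_comm ((r + 1) * l), Nat.sub_sub]
      · omega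
    · rw [Nat.div_eq_of_lt (by omega)]; rfl
  let G : MPS := fun d => h (d 0) (d 1 + 2)
  have hG : ∀ d, MvPowerSeries.coeff d G = h (d 0) (d 1 + 2) := fun d => rfl
  have hd : ∀ d : Fin 2 →₀ ℕ, d = Finsupp.single 0 (d 0) + Finsupp.single 1 (d 1) := fun d => by
    ext i; fin_cases i <;> simp
  refine ⟨PowerSeries.mk fun i => h i 0, PowerSeries.mk fun i => h i 1, ?_⟩
  rw [xMap_apply, xMap_apply, ArSing.y, ← map_mul, ← map_add, Ideal.Quotient.eq,
    Ideal.mem_span_singleton']
  refine ⟨G, ?_⟩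
  ext d
  have hf : MvPowerSeries.coeff d f = c (d 0) (d 1) := by rw [← show _ = _ from congrArg (MvPowerSeries.coeff · f) (hd d).symm]
  have e1 : MvPowerSeries.coeff d (G * MvPowerSeries.X 1 ^ 2) =
      if 2 ≤ d 1 then h (d 0) (d 1) else 0 := by
    rw [mul_comm, MvPowerSeries.X_pow_eq, MvPowerSeries.coeff_monomial_mul, one_mul]
    refine ite_congr (propext Finsupp.single_le_iff) (fun hd2 => ?_) (fun _ => rfl)
    rw [hG]
    simp
    congr 1; omega
  have e0 : MvPowerSeries.coeff d (G * MvPowerSeries.X 0 ^ (r + 1)) =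
      if r + 1 ≤ d 0 then h (d 0 - (r + 1)) (d 1 + 2) else 0 := by
    rw [mul_comm, MvPowerSeries.X_pow_eq, MvPowerSeries.coeff_monomial_mul, one_mul]
    refine ite_congr (propext Finsupp.single_le_iff) (fun hd2 => ?_) (fun _ => rfl)
    rw [hG]
    simp
  have e2 : ∀ Q : PS, MvPowerSeries.coeff d (subX Q * MvPowerSeries.X 1) =
      if d 1 = 1 then PowerSeries.coeff (d 0) Q else 0 := by
    intro Q
    rw [mul_comm, MvPowerSeries.X_def, MvPowerSeries.coeff_monomial_mul, one_mul, coeff_subX]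
    by_cases h1 : 1 ≤ d 1
    · rw [if_pos (by simpa using h1)]
      simp
      refine ite_congr ?_ (fun _ => rfl) (fun _ => rfl)
      simp; omega
    · rw [if_neg (by simpa using h1), if_neg (by omega)]
  rw [ArSing.eqn, mul_sub, map_sub, map_sub, map_add, e1, e0, e2, coeff_subX, hf,
    PowerSeries.coeff_mk, PowerSeries.coeff_mk]
  have := hrec (d 0) (d 1)
  rcases Nat.lt_or_ge (d 1) 2 with h2 | h2
  · rw [if_neg (by omega)]
    rcases (show d 1 = 0 ∨ d 1 = 1 by omega) with h1 | h1 <;> simp [h1] at this ⊢ <;> linear_combination this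
  · simp [show d 1 ≠ 0 by omega, show d 1 ≠ 1 by omega, h2] at this ⊢
    linear_combination this

variable {r}

theorem hasSubst_br (s : k) :
    MvPowerSeries.HasSubst (![PowerSeries.X ^ 2, PowerSeries.C s * PowerSeries.X ^ (r + 1)] : Fin 2 → PS) :=
  MvPowerSeries.hasSubst_of_constantCoeff_zero fun i => by
    fin_cases i
    · change PowerSeries.constantCoeff ((PowerSeries.X : PS) ^ 2) = 0; simp
    · change PowerSeries.constantCoeff (PowerSeries.C s * (PowerSeries.X : PS) ^ (r + 1)) = 0; simp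

variable (r) in
/-- `x ↦ t^2`, `y ↦ s t^(r+1)`. -/
def br (s : k) (hs : s ^ 2 = 1) : A →ₐ[k] PS :=
  Ideal.Quotient.liftₐ _ (substAlgHom (hasSubst_br (r := r) s)) fun a ha => by
    obtain ⟨c, rfl⟩ := Ideal.mem_span_singleton'.1 ha
    rw [map_mul, ArSing.eqn, map_sub, map_pow, map_pow, MvPowerSeries.substAlgHom_X,
      MvPowerSeries.substAlgHom_X]
    refine mul_eq_zero_of_right _ ?_
    simp only [Matrix.cons_val_zero, Matrix.cons_val_one]
    rw [mul_pow, ← map_pow, hs, map_one, one_mul, ← pow_mul, ← pow_mul, mul_comm, sub_self]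

theorem br_x (s : k) (hs : s ^ 2 = 1) : br r s hs (ArSing.x k r) = PowerSeries.X ^ 2 :=
  (MvPowerSeries.substAlgHom_X (hasSubst_br (r := r) s) 0).trans rfl

theorem br_y (s : k) (hs : s ^ 2 = 1) :
    br r s hs (ArSing.y k r) = PowerSeries.C s * PowerSeries.X ^ (r + 1) :=
  (MvPowerSeries.substAlgHom_X (hasSubst_br (r := r) s) 1).trans rfl

theorem br_xMap (s : k) (hs : s ^ 2 = 1) (P : PS) :
    br r s hs (ArSing.xMap k r P) = PowerSeries.expand 2 two_ne_zero P := by
  refine AlgHom.congr_fun (hom_ext₁ ((br r s hs).comp (ArSing.xMap k r)) (PowerSeries.expand 2 two_ne_zero)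
    (tI k) tI_ne_top ?_ ?_) P
  · rw [AlgHom.comp_apply, xMap_X, br_x, PowerSeries.expand_X]
  · rw [AlgHom.comp_apply, xMap_X, br_x, mem_tI]; simp

theorem br_PQ (s : k) (hs : s ^ 2 = 1) (P Q : PS) :
    br r s hs (ArSing.xMap k r P + ArSing.xMap k r Q * ArSing.y k r) =
      PowerSeries.expand 2 two_ne_zero P +
        PowerSeries.C s * (PowerSeries.X ^ (r + 1) * PowerSeries.expand 2 two_ne_zero Q) := by
  rw [map_add, map_mul, br_xMap, br_xMap, br_y]; ring

theorem coeff_br (s : k) (hs : s ^ 2 = 1) (P Q : PS) (m : ℕ) :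
    PowerSeries.coeff m (br r s hs (ArSing.xMap k r P + ArSing.xMap k r Q * ArSing.y k r)) =
      (if 2 ∣ m then PowerSeries.coeff (m / 2) P else 0) +
        if r + 1 ≤ m ∧ 2 ∣ m - (r + 1) then s * PowerSeries.coeff ((m - (r + 1)) / 2) Q else 0 := by
  have he : ∀ (F : PS) (i : ℕ), PowerSeries.coeff i (PowerSeries.expand 2 two_ne_zero F) =
      if 2 ∣ i then PowerSeries.coeff (i / 2) F else 0 := by
    intro F i
    split_ifs with h
    · obtain ⟨j, rfl⟩ := h
      rw [Nat.mul_div_cancel_left _ two_pos, PowerSeries.coeff_expand_mul]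
    · exact PowerSeries.coeff_expand_of_not_dvd 2 two_ne_zero F h
  rw [br_PQ, map_add, he, PowerSeries.coeff_C_mul, PowerSeries.coeff_X_pow_mul']
  congr 1
  by_cases h1 : r + 1 ≤ m
  · rw [if_pos h1, he]
    by_cases h2 : 2 ∣ m - (r + 1)
    · rw [if_pos h2, if_pos ⟨h1, h2⟩]
    · rw [if_neg h2, if_neg (fun h => h2 h.2), mul_zero]
  · rw [if_neg h1, if_neg (fun h => h1 h.1), mul_zero]

section

variable [NeZero (2 : k)]

theorem two_ne : (2 : k) ≠ 0 := NeZero.ne _

theorem eq_zero_of_PQ {P Q : PS} (h : ArSing.xMap k r P + ArSing.xMap k r Q * ArSing.y k r = 0) :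
    P = 0 ∧ Q = 0 := by
  have h1 := fun m => coeff_br (r := r) (1 : k) (one_pow 2) P Q m
  have h2 := fun m => coeff_br (r := r) (-1 : k) neg_one_sq P Q m
  rw [h] at h1 h2
  simp only [map_zero] at h1 h2
  refine ⟨PowerSeries.ext fun i => ?_, PowerSeries.ext fun i => ?_⟩
  · have a := h1 (2 * i)
    have b := h2 (2 * i)
    rw [if_pos (dvd_mul_right 2 i), Nat.mul_div_cancel_left i two_pos] at a b
    rw [map_zero]
    split_ifs at a b <;>
      exact (mul_eq_zero.1 (show (2 : k) * PowerSeries.coeff i P = 0 by linear_combination -a - b)).resolve_left two_ne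
  · have a := h1 (r + 1 + 2 * i)
    have b := h2 (r + 1 + 2 * i)
    have hc : r + 1 ≤ r + 1 + 2 * i ∧ 2 ∣ r + 1 + 2 * i - (r + 1) := ⟨by omega, by simp⟩
    rw [if_pos hc, Nat.add_sub_cancel_left, Nat.mul_div_cancel_left i two_pos] at a b
    rw [map_zero]
    exact (mul_eq_zero.1 (show (2 : k) * PowerSeries.coeff i Q = 0 by linear_combination b - a)).resolve_left two_ne

theorem PQ_unique {P Q P' Q' : PS}
    (h : ArSing.xMap k r P + ArSing.xMap k r Q * ArSing.y k r =
      ArSing.xMap k r P' + ArSing.xMap k r Q' * ArSing.y k r) : P = P' ∧ Q = Q' := by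
  have := eq_zero_of_PQ (r := r) (P := P - P') (Q := Q - Q') (by rw [map_sub, map_sub]; linear_combination h)
  exact ⟨sub_eq_zero.1 this.1, sub_eq_zero.1 this.2⟩

/-- The two coordinates of an element. -/
def coP (z : A) : PS := (exists_PQ r z).choose

/-- The coefficient of `y`. -/
def coQ (z : A) : PS := (exists_PQ r z).choose_spec.choose

theorem co_spec (z : A) : z = ArSing.xMap k r (coP z) + ArSing.xMap k r (coQ z) * ArSing.y k r :=
  (exists_PQ r z).choose_spec.choose_spec

theorem co_eq {z : A} {P Q : PS} (h : z = ArSing.xMap k r P + ArSing.xMap k r Q * ArSing.y k r) :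
    coP z = P ∧ coQ z = Q :=
  PQ_unique ((co_spec z).symm.trans h)

theorem co_xMap (P : PS) : coP (ArSing.xMap k r P) = P ∧ coQ (ArSing.xMap k r P) = 0 :=
  co_eq (by simp)

theorem co_x : coP (ArSing.x k r) = PowerSeries.X ∧ coQ (ArSing.x k r) = 0 := by
  rw [← xMap_X]; exact co_xMap _

theorem co_y : coP (ArSing.y k r) = 0 ∧ coQ (ArSing.y k r) = 1 := co_eq (by simp)

theorem co_add (z w : A) : coP (z + w) = coP z + coP w ∧ coQ (z + w) = coQ z + coQ w :=
  co_eq (by conv_lhs => rw [co_spec z, co_spec w]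
            simp only [map_add]; ring)

theorem co_mul (z w : A) : coP (z * w) = coP z * coP w + coQ z * coQ w * PowerSeries.X ^ (r + 1) ∧
    coQ (z * w) = coP z * coQ w + coQ z * coP w :=
  co_eq (by conv_lhs => rw [co_spec z, co_spec w]
            simp only [map_add, map_mul, map_pow, xMap_X]
            linear_combination (ArSing.xMap k r (coQ z) * ArSing.xMap k r (coQ w)) * y_sq (k := k) r)

theorem co_algebraMap (a : k) : coP (algebraMap k A a) = PowerSeries.C a ∧ coQ (algebraMap k A a) = 0 := by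
  rw [← (ArSing.xMap k r).commutes a]; exact co_xMap _

theorem br_co (s : k) (hs : s ^ 2 = 1) (z : A) (m : ℕ) :
    PowerSeries.coeff m (br r s hs z) = (if 2 ∣ m then PowerSeries.coeff (m / 2) (coP z) else 0) +
        if r + 1 ≤ m ∧ 2 ∣ m - (r + 1) then s * PowerSeries.coeff ((m - (r + 1)) / 2) (coQ z) else 0 := by
  conv_lhs => rw [co_spec z]
  exact coeff_br s hs _ _ m

theorem eq_zero_of_br {z : A} (h1 : br r (1 : k) (one_pow 2) z = 0)
    (h2 : br r (-1 : k) neg_one_sq z = 0) : z = 0 := by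
  have a := fun m => br_co (r := r) (1 : k) (one_pow 2) z m
  have b := fun m => br_co (r := r) (-1 : k) neg_one_sq z m
  rw [h1] at a; rw [h2] at b
  simp only [map_zero] at a b
  have hP : coP z = 0 := PowerSeries.ext fun i => by
    have a := a (2 * i)
    have b := b (2 * i)
    rw [if_pos (dvd_mul_right 2 i), Nat.mul_div_cancel_left i two_pos] at a b
    rw [map_zero]
    split_ifs at a b <;>
      exact (mul_eq_zero.1 (show (2 : k) * PowerSeries.coeff i (coP z) = 0 by linear_combination -a - b)).resolve_left two_ne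
  have hQ : coQ z = 0 := PowerSeries.ext fun i => by
    have a := a (r + 1 + 2 * i)
    have b := b (r + 1 + 2 * i)
    have hc : r + 1 ≤ r + 1 + 2 * i ∧ 2 ∣ r + 1 + 2 * i - (r + 1) := ⟨by omega, by simp⟩
    rw [if_pos hc, Nat.add_sub_cancel_left, Nat.mul_div_cancel_left i two_pos] at a b
    rw [map_zero]
    exact (mul_eq_zero.1 (show (2 : k) * PowerSeries.coeff i (coQ z) = 0 by linear_combination b - a)).resolve_left two_ne
  rw [co_spec z, hP, hQ]; simp

/-- The residue map. -/
def ev0 : A →ₐ[k] k where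
  toFun z := PowerSeries.constantCoeff (coP z)
  map_one' := by rw [← map_one (algebraMap k A), (co_algebraMap 1).1]; simp
  map_mul' z w := by rw [(co_mul z w).1]; simp
  map_zero' := by rw [← map_zero (algebraMap k A), (co_algebraMap 0).1]; simp
  map_add' z w := by rw [(co_add z w).1]; simp
  commutes' a := by rw [(co_algebraMap a).1]; simp

/-- The coefficient of `x`. -/
def cx (z : A) : k := PowerSeries.coeff 1 (coP z)

/-- The coefficient of `y`. -/
def cy (z : A) : k := PowerSeries.constantCoeff (coQ z)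

theorem cx_add (z w : A) : cx (z + w) = cx z + cx w := by rw [cx, (co_add z w).1, map_add]; rfl

theorem cy_add (z w : A) : cy (z + w) = cy z + cy w := by rw [cy, (co_add z w).2, map_add]; rfl

theorem cx_algebraMap (a : k) : cx (algebraMap k A a) = 0 := by
  rw [cx, (co_algebraMap a).1, PowerSeries.coeff_C]; simp

theorem cy_algebraMap (a : k) : cy (algebraMap k A a) = 0 := by
  rw [cy, (co_algebraMap a).2, map_zero]

theorem cy_mul (z w : A) : cy (z * w) = ev0 z * cy w + cy z * ev0 w := by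
  rw [cy, (co_mul z w).2, map_add, map_mul, map_mul]; rfl

theorem cx_mul (hr : 1 ≤ r) (z w : A) : cx (z * w) = ev0 z * cx w + cx z * ev0 w := by
  rw [cx, (co_mul z w).1, map_add, PowerSeries.coeff_one_mul, PowerSeries.coeff_mul_X_pow',
    if_neg (by omega), add_zero]
  simp only [cx, ev0, AlgHom.coe_mk, RingHom.coe_mk, MonoidHom.coe_mk, OneHom.coe_mk]; ring

theorem cx_smul (hr : 1 ≤ r) (a : k) (z : A) : cx (algebraMap k A a * z) = a * cx z := by
  rw [cx_mul hr, cx_algebraMap, AlgHom.commutes]; simp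

theorem cy_smul (a : k) (z : A) : cy (algebraMap k A a * z) = a * cy z := by
  rw [cy_mul, cy_algebraMap, AlgHom.commutes]; simp

theorem ev0_x : ev0 (ArSing.x k r) = 0 := by
  show PowerSeries.constantCoeff (coP (ArSing.x k r)) = 0; rw [co_x.1]; simp

theorem ev0_y : ev0 (ArSing.y k r) = 0 := by
  show PowerSeries.constantCoeff (coP (ArSing.y k r)) = 0; rw [co_y.1]; simp

theorem cx_x : cx (ArSing.x k r) = 1 := by rw [cx, co_x.1]; simp
theorem cy_x : cy (ArSing.x k r) = 0 := by rw [cy, co_x.2]; simp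
theorem cx_y : cx (ArSing.y k r) = 0 := by rw [cx, co_y.1]; simp
theorem cy_y : cy (ArSing.y k r) = 1 := by rw [cy, co_y.2]; simp

/-- A representative. -/
def rep (z : A) : MPS := subX (coP z) + subX (coQ z) * MvPowerSeries.X 1

theorem mk_rep (z : A) : Ideal.Quotient.mk _ (rep z) = z := by
  conv_rhs => rw [co_spec z]
  simp [rep, xMap_apply, ArSing.y]

theorem constantCoeff_rep (z : A) : MvPowerSeries.constantCoeff (rep z) = ev0 z := by
  rw [rep, map_add, map_mul, MvPowerSeries.constantCoeff_X, mul_zero, add_zero,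
    ← MvPowerSeries.coeff_zero_eq_constantCoeff_apply, coeff_subX, if_pos (by simp)]
  simp [ev0]

theorem isUnit_iff {z : A} : IsUnit z ↔ ev0 z ≠ 0 := by
  refine ⟨fun h => (h.map ev0).ne_zero, fun h => ?_⟩
  rw [← mk_rep z]
  refine IsUnit.map _ ?_
  rw [MvPowerSeries.isUnit_iff_constantCoeff, constantCoeff_rep]
  exact isUnit_iff_ne_zero.2 h

instance instNontrivial : Nontrivial A := (ev0 (k := k) (r := r)).toRingHom.domain_nontrivial

instance instIsLocalRing : IsLocalRing A :=
  IsLocalRing.of_surjective' (Ideal.Quotient.mk _) Ideal.Quotient.mk_surjective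

theorem mem_maximalIdeal {z : A} : z ∈ IsLocalRing.maximalIdeal A ↔ ev0 z = 0 := by
  rw [IsLocalRing.mem_maximalIdeal, mem_nonunits_iff, isUnit_iff, not_not]

theorem hom_ext_x_y {ψ ψ' : A →ₐ[k] A} (hx : ψ (ArSing.x k r) = ψ' (ArSing.x k r))
    (hy : ψ (ArSing.y k r) = ψ' (ArSing.y k r)) (mx : ev0 (ψ (ArSing.x k r)) = 0)
    (my : ev0 (ψ (ArSing.y k r)) = 0) : ψ = ψ' := by
  have := hom_ext (ψ.comp (Ideal.Quotient.mkₐ k _)) (ψ'.comp (Ideal.Quotient.mkₐ k _))
    (IsLocalRing.maximalIdeal A) (IsLocalRing.maximalIdeal.isMaximal A).ne_top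
    (fun i => by fin_cases i; exacts [hx, hy])
    (fun i => by fin_cases i; exacts [mem_maximalIdeal.2 mx, mem_maximalIdeal.2 my])
  ext q
  obtain ⟨f, rfl⟩ := Ideal.Quotient.mk_surjective q
  exact AlgHom.congr_fun this f

end

end Groth.Agent.Lib.ArSing99
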