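import Groth.Agent.Lib.ArSing99.QuadJac
import Mathlib.RingTheory.MvPowerSeries.Equiv
import Mathlib.RingTheory.PowerSeries.NoZeroDivisors
import Mathlib.RingTheory.KrullDimension.Polynomial
import Mathlib.RingTheory.Polynomial.UniqueFactorization
import Mathlib.FieldTheory.IsAlgClosed.Basic
import Mathlib.Algebra.CharP.Lemmas

/-!
# Double lines as completions of plane curves
-/

set_option autoImplicit false

noncomputable section

universe u

namespace Groth.Agent.Lib.ArSing99.DoubleLine

open Groth.Agent.H61.PSFilt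
open Groth.Agent.Lib.ArSing99.QuadJac
open Groth.Agent.H15.MorseLemma (D sum_X_mul_D coeff_single_X_mul)

variable {k : Type u} [Field k] {N : ℕ}

local notation "S" => MvPowerSeries (Fin N) k

/-- Series with independent linear parts are the images of the variables under an automorphism. -/
theorem exists_equiv (U : Fin N → MvPowerSeries (Fin N) k) (hU : ∀ a, MvPowerSeries.constantCoeff (U a) = 0)
    (hdet : (lin U).det ≠ 0) :
    ∃ θ : MvPowerSeries (Fin N) k ≃ₐ[k] MvPowerSeries (Fin N) k, ∀ a, θ (MvPowerSeries.X a) = U a := by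
  classical
  set L := lin U with hL
  let el : Matrix (Fin N) (Fin N) k → Fin N → S := fun M a => ∑ b, MvPowerSeries.C (M a b) * MvPowerSeries.X b
  have hel : ∀ M a, el M a ∈ XI (Fin N) k := fun M a =>
    Ideal.sum_mem _ fun b _ => Ideal.mul_mem_left _ _ (Ideal.subset_span ⟨b, rfl⟩)
  have helX : ∀ M M', M * M' = 1 → ∀ a,
      MvPowerSeries.subst (el M') (el M a) = (MvPowerSeries.X a : S) := by
    intro M M' h a
    rw [← MvPowerSeries.substAlgHom_apply (hasSubst (hel M')), show el M a = _ from rfl, map_sum]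
    simp only [map_mul, MvPowerSeries.substAlgHom_X,
      show ∀ r : k, MvPowerSeries.substAlgHom (hasSubst (hel M')) (MvPowerSeries.C r) = MvPowerSeries.C r from
        fun r => by rw [MvPowerSeries.substAlgHom_apply, MvPowerSeries.subst_C]]
    simp only [el, Finset.mul_sum, ← mul_assoc, ← map_mul]
    rw [Finset.sum_comm]
    simp only [← Finset.sum_mul, ← map_sum, ← Matrix.mul_apply, h, Matrix.one_apply]
    simp
  have hlbij : Function.Bijective (MvPowerSeries.subst (R := k) (el L)) := by
    have hu := isUnit_iff_ne_zero.2 hdet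
    refine Function.bijective_iff_has_inverse.2 ⟨MvPowerSeries.subst (el L⁻¹), fun x => ?_, fun x => ?_⟩
    · rw [MvPowerSeries.subst_comp_subst_apply (hasSubst (hel _)) (hasSubst (hel _))]
      simp only [helX L L⁻¹ (Matrix.mul_nonsing_inv _ hu)]
      exact congrFun MvPowerSeries.subst_self x
    · rw [MvPowerSeries.subst_comp_subst_apply (hasSubst (hel _)) (hasSubst (hel _))]
      simp only [helX L⁻¹ L (Matrix.nonsing_inv_mul _ hu)]
      exact congrFun MvPowerSeries.subst_self x
  let V : Fin N → S := fun a => ∑ b, MvPowerSeries.C (L⁻¹ a b) * U b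
  have hVmem : ∀ a, V a ∈ XI (Fin N) k := fun a =>
    Ideal.sum_mem _ fun b _ => Ideal.mul_mem_left _ _ (mem_iff_constantCoeff.2 (hU b))
  have hV : ∀ a, V a - MvPowerSeries.X a ∈ XI (Fin N) k ^ 2 := fun a => by
    refine mem_sq_iff.2 ⟨by simp [mem_iff_constantCoeff.1 (hVmem a)], fun j => ?_⟩
    rw [map_sub, map_sum, MvPowerSeries.coeff_index_single_X, sub_eq_zero]
    simp only [MvPowerSeries.coeff_C_mul]
    have h := congrFun (congrFun (Matrix.nonsing_inv_mul L (isUnit_iff_ne_zero.2 hdet)) a) j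
    rw [Matrix.mul_apply, Matrix.one_apply] at h
    simpa [hL, lin, eq_comm] using h
  have hVbij : Function.Bijective (MvPowerSeries.subst (R := k) V) := by
    have := subst_bijective hV
    simpa using this
  have hUs : MvPowerSeries.HasSubst U := hasSubst fun a => mem_iff_constantCoeff.2 (hU a)
  have hcomp : ∀ x : S, MvPowerSeries.subst V (MvPowerSeries.subst (el L) x) = MvPowerSeries.subst U x := by
    intro x
    rw [MvPowerSeries.subst_comp_subst_apply (hasSubst (hel _)) (hasSubst hVmem)]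
    congr 1
    funext a
    rw [← MvPowerSeries.substAlgHom_apply (hasSubst hVmem), show el L a = _ from rfl, map_sum]
    simp only [map_mul, MvPowerSeries.substAlgHom_X,
      show ∀ r : k, MvPowerSeries.substAlgHom (hasSubst hVmem) (MvPowerSeries.C r) = MvPowerSeries.C r from
        fun r => by rw [MvPowerSeries.substAlgHom_apply, MvPowerSeries.subst_C]]
    simp only [V, Finset.mul_sum, ← mul_assoc, ← map_mul]
    rw [Finset.sum_comm]
    simp only [← Finset.sum_mul, ← map_sum, ← Matrix.mul_apply,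
      Matrix.mul_nonsing_inv L (isUnit_iff_ne_zero.2 hdet), Matrix.one_apply]
    simp
  refine ⟨AlgEquiv.ofBijective (MvPowerSeries.substAlgHom hUs) ?_, fun a => MvPowerSeries.substAlgHom_X hUs a⟩
  rw [MvPowerSeries.coe_substAlgHom]
  have := hVbij.comp hlbij
  rwa [show MvPowerSeries.subst (R := k) V ∘ MvPowerSeries.subst (el L) = MvPowerSeries.subst U from funext hcomp] at this

/-! ### Plane curves -/

section Plane

local notation "T" => MvPowerSeries (Fin 2) k

theorem prime_X0 : Prime (MvPowerSeries.X 0 : T) := by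
  haveI : IsDomain (MvPowerSeries (Fin 1) k) := NoZeroDivisors.to_isDomain _
  rw [← MulEquiv.prime_iff (MvPowerSeries.finSuccEquiv k 1).toMulEquiv]
  show Prime (MvPowerSeries.finSuccEquiv k 1 (MvPowerSeries.X 0))
  rw [MvPowerSeries.finSuccEquiv_X_zero]
  exact PowerSeries.X_prime

theorem X1_sq_mem : (MvPowerSeries.X 1 ^ 2 : T) ∈ XI (Fin 2) k ^ 2 :=
  Ideal.pow_mem_pow (Ideal.subset_span (Set.mem_range_self 1)) 2

theorem X_sq_not_mem_cube (i : Fin 2) : (MvPowerSeries.X i ^ 2 : T) ∉ XI (Fin 2) k ^ 3 := fun h => by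
  have := low_of_mem h (Finsupp.single i 2) (by rw [Finsupp.degree_single]; omega)
  simp [MvPowerSeries.coeff_X_pow] at this

theorem equiv_mem_XI (θ : T ≃ₐ[k] T) {x : T} (hx : x ∈ XI (Fin 2) k) : θ x ∈ XI (Fin 2) k := by
  rw [QuadCompletion.XI_eq_maximalIdeal, IsLocalRing.mem_maximalIdeal, mem_nonunits_iff] at hx ⊢
  exact fun h => hx (by simpa using h.map θ.symm)

theorem equiv_mem_pow (θ : T ≃ₐ[k] T) {n : ℕ} {x : T} (hx : x ∈ XI (Fin 2) k ^ n) : θ x ∈ XI (Fin 2) k ^ n := by
  have h := Ideal.mem_map_of_mem θ hx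
  rw [Ideal.map_pow] at h
  have hle : Ideal.map θ (XI (Fin 2) k) ≤ XI (Fin 2) k := by
    rw [Ideal.map_le_iff_le_comap]
    intro y hy
    rw [Ideal.mem_comap]
    exact equiv_mem_XI θ hy
  exact Ideal.pow_right_mono hle n h

theorem mem_sq_of_equiv {F : MvPowerSeries (Fin 2) k}
    (e : (MvPowerSeries (Fin 2) k ⧸ Ideal.span {F}) ≃ₐ[k]
      (MvPowerSeries (Fin 2) k ⧸ Ideal.span {(MvPowerSeries.X 1 ^ 2 : MvPowerSeries (Fin 2) k)})) :
    F ∈ XI (Fin 2) k ^ 2 := by
  have hY1 : (MvPowerSeries.X 1 ^ 2 : T) ∈ XI (Fin 2) k := Ideal.pow_le_self two_ne_zero X1_sq_mem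
  have hF : F ∈ XI (Fin 2) k := by
    by_contra h
    rw [mem_iff_constantCoeff] at h
    have hu : IsUnit F := MvPowerSeries.isUnit_iff_constantCoeff.2 (isUnit_iff_ne_zero.2 h)
    have h10 : (1 : T ⧸ Ideal.span {F}) = 0 := by
      rw [← map_one (Ideal.Quotient.mk (Ideal.span {F})), Ideal.Quotient.eq_zero_iff_mem,
        Ideal.span_singleton_eq_top.2 hu]
      trivial
    have h2 := congrArg e h10
    rw [map_one, map_zero] at h2
    have := (isUnit_mk_iff hY1 0).1 (by rw [map_zero, ← h2]; exact isUnit_one)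
    simp at this
  choose U hU using fun a : Fin 2 => Ideal.Quotient.mk_surjective
    (I := Ideal.span {(MvPowerSeries.X 1 ^ 2 : T)}) (e (Ideal.Quotient.mk _ (MvPowerSeries.X a)))
  have hdet := lin_det_ne_zero X1_sq_mem hF e U hU
  have hres := residue_eq hY1 hF e
  have hU0 : ∀ a, MvPowerSeries.constantCoeff (U a) = 0 := fun a => by
    rw [hres _ _ (hU a), MvPowerSeries.constantCoeff_X]
  have hF0 := mem_iff_constantCoeff.1 hF
  choose W hW using fun a : Fin 2 => Ideal.Quotient.mk_surjective
    (I := Ideal.span {(MvPowerSeries.X 1 ^ 2 : T)}) (e (Ideal.Quotient.mk _ (D a F)))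
  have hker : Ideal.Quotient.mk (Ideal.span {(MvPowerSeries.X 1 ^ 2 : T)}) (∑ a, U a * W a) = 0 := by
    simp only [map_sum, map_mul, hU, hW]
    simp only [← map_mul, ← map_sum]
    rw [sum_X_mul_D F hF0, Ideal.Quotient.mk_singleton_self, map_zero]
  have hsq := (Ideal.span_singleton_le_iff_mem (I := XI (Fin 2) k ^ 2)).2 X1_sq_mem
    (Ideal.Quotient.eq_zero_iff_mem.1 hker)
  have hr : Matrix.vecMul (fun a => MvPowerSeries.coeff (Finsupp.single a 1) F) (lin U) = 0 := by
    funext j
    have h := coeff_single_of_sq hsq j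
    rw [map_sum] at h
    simp only [Matrix.vecMul, dotProduct, Pi.zero_apply]
    rw [← h]
    refine Finset.sum_congr rfl fun a _ => ?_
    rw [mul_comm (U a), coeff_single_mul _ _ (hU0 a), hres _ _ (hW a)]
    show MvPowerSeries.coeff (Finsupp.single a 1) F * _ = _
    congr 1
    conv_lhs => rw [← sum_X_mul_D F hF0, map_sum]
    simp [coeff_single_X_mul]
  exact mem_sq_iff.2 ⟨hF0, fun i => congrFun (Matrix.eq_zero_of_vecMul_eq_zero hdet hr) i⟩

theorem exists_unit_mul_sq {F : MvPowerSeries (Fin 2) k}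
    (e : (MvPowerSeries (Fin 2) k ⧸ Ideal.span {F}) ≃ₐ[k]
      (MvPowerSeries (Fin 2) k ⧸ Ideal.span {(MvPowerSeries.X 1 ^ 2 : MvPowerSeries (Fin 2) k)})) :
    ∃ (θ : MvPowerSeries (Fin 2) k ≃ₐ[k] MvPowerSeries (Fin 2) k) (c : MvPowerSeries (Fin 2) k),
      IsUnit c ∧ F = c * θ (MvPowerSeries.X 0) ^ 2 := by
  have hF := mem_sq_of_equiv e
  have hY1 : (MvPowerSeries.X 1 ^ 2 : T) ∈ XI (Fin 2) k := Ideal.pow_le_self two_ne_zero X1_sq_mem
  choose U hU using fun a : Fin 2 => Ideal.Quotient.mk_surjective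
    (I := Ideal.span {F}) (e.symm (Ideal.Quotient.mk _ (MvPowerSeries.X a)))
  have hdet := lin_det_ne_zero hF hY1 e.symm U hU
  have hU0 : ∀ a, MvPowerSeries.constantCoeff (U a) = 0 := fun a => by
    rw [residue_eq (Ideal.pow_le_self two_ne_zero hF) hY1 e.symm _ _ (hU a), MvPowerSeries.constantCoeff_X]
  obtain ⟨θ, hθ⟩ := exists_equiv (U ∘ Equiv.swap 0 1) (fun a => hU0 _) (by
    rw [show lin (U ∘ Equiv.swap 0 1) = (lin U).submatrix (Equiv.swap 0 1) id from rfl, Matrix.det_permute]
    simpa using hdet)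
  have hker : Ideal.Quotient.mk (Ideal.span {F}) (U 1 ^ 2) = 0 := by
    rw [map_pow, hU, ← map_pow, ← map_pow, Ideal.Quotient.mk_singleton_self, map_zero]
  obtain ⟨c, hc⟩ := Ideal.mem_span_singleton'.1 (Ideal.Quotient.eq_zero_iff_mem.1 hker)
  have hcu : IsUnit c := by
    rw [MvPowerSeries.isUnit_iff_constantCoeff, isUnit_iff_ne_zero]
    intro h
    have h3 : c * F ∈ XI (Fin 2) k ^ 3 := by
      rw [pow_succ']; exact Ideal.mul_mem_mul (mem_iff_constantCoeff.2 h) hF
    have h4 := equiv_mem_pow θ.symm h3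
    rw [hc, map_pow, show U 1 = θ (MvPowerSeries.X 0) by rw [hθ]; simp, AlgEquiv.symm_apply_apply] at h4
    exact X_sq_not_mem_cube 0 h4
  obtain ⟨c', hc'⟩ := hcu.exists_left_inv
  refine ⟨θ, c', IsUnit.of_mul_eq_one c hc', ?_⟩
  rw [hθ, Function.comp_apply, Equiv.swap_apply_left, ← hc, ← mul_assoc, hc', one_mul]

/-- An irreducible polynomial over an algebraically closed field has a non-zero derivative. -/
theorem exists_pderiv_ne_zero {σ : Type} [IsAlgClosed k] (q : MvPolynomial σ k) (hq : Irreducible q) :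
    ∃ i, MvPolynomial.pderiv i q ≠ 0 := by
  classical
  by_contra! h
  have hm : ∀ m ∈ q.support, ∀ i, ((m i : ℕ) : k) = 0 := by
    intro m hm i
    rcases Nat.eq_zero_or_pos (m i) with h0 | hpos
    · rw [h0, Nat.cast_zero]
    have he : m - Finsupp.single i 1 + Finsupp.single i 1 = m :=
      tsub_add_cancel_of_le (Finsupp.single_le_iff.2 hpos)
    have h1 := congrArg (fun r => MvPolynomial.coeff (m - Finsupp.single i 1) r) (h i)
    simp only [MvPolynomial.coeff_pderiv, he, MvPolynomial.coeff_zero, mul_eq_zero] at h1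
    rcases h1 with h1 | h1
    · exact absurd h1 (MvPolynomial.mem_support_iff.1 hm)
    · have : (m - Finsupp.single i 1 : σ →₀ ℕ) i + 1 = m i := by
        simp; omega
      exact (congrArg (Nat.cast : ℕ → k) this).symm.trans (by push_cast; exact h1)
  obtain ⟨p, hp⟩ := CharP.exists k
  rcases CharP.char_is_prime_or_zero k p with hpp | rfl
  · haveI := Fact.mk hpp
    choose r hr using fun x : k => IsAlgClosed.exists_pow_nat_eq x hpp.pos
    have hq' : q = (∑ m ∈ q.support, MvPolynomial.monomial (m.mapRange (· / p) (Nat.zero_div p))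
        (r (q.coeff m))) ^ p := by
      rw [sum_pow_char p]
      conv_lhs => rw [q.as_sum]
      refine Finset.sum_congr rfl fun m hm' => ?_
      have hmm : p • m.mapRange (· / p) (Nat.zero_div p) = m := by
        ext i
        rw [Finsupp.smul_apply, Finsupp.mapRange_apply, smul_eq_mul]
        exact Nat.mul_div_cancel' ((CharP.cast_eq_zero_iff k p _).1 (hm m hm' i))
      rw [MvPolynomial.monomial_pow, hr, hmm]
    rw [hq'] at hq
    exact not_irreducible_pow hpp.ne_one hq
  · haveI := CharP.charP_to_charZero k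
    have hq' : q = MvPolynomial.C (q.coeff 0) := by
      ext m
      rw [MvPolynomial.coeff_C]
      split_ifs with h0
      · rw [h0]
      · by_contra hne
        refine h0 (Finsupp.ext fun i => ?_)
        have := hm m (MvPolynomial.mem_support_iff.2 hne) i
        simpa using (Nat.cast_eq_zero.1 this).symm
    rw [hq'] at hq
    by_cases hc : q.coeff 0 = 0
    · rw [hc, map_zero] at hq
      exact not_irreducible_zero hq
    · exact hq.not_isUnit ((isUnit_iff_ne_zero.2 hc).map MvPolynomial.C)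

theorem totalDegree_pderiv_lt {σ : Type} (q : MvPolynomial σ k) (i : σ) (h : MvPolynomial.pderiv i q ≠ 0) :
    (MvPolynomial.pderiv i q).totalDegree < q.totalDegree := by
  classical
  have key : ∀ m ∈ (MvPolynomial.pderiv i q).support, m.degree + 1 ≤ q.totalDegree := by
    intro m hm
    rw [MvPolynomial.mem_support_iff, MvPolynomial.coeff_pderiv] at hm
    have := MvPolynomial.le_totalDegree (MvPolynomial.mem_support_iff.2 (left_ne_zero_of_mul hm))
    have e2 : (m + Finsupp.single i 1).degree ≤ q.totalDegree := this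
    rwa [map_add, Finsupp.degree_single] at e2
  obtain ⟨m, hm⟩ := Finset.nonempty_of_ne_empty (s := (MvPolynomial.pderiv i q).support) (by simpa using h)
  rw [show (MvPolynomial.pderiv i q).totalDegree = (MvPolynomial.pderiv i q).support.sup fun s => s.degree from rfl,
    Finset.sup_lt_iff (lt_of_lt_of_le (Nat.succ_pos _) (key m hm))]
  exact fun b hb => key b hb

theorem eq_sq_mul_iff [IsAlgClosed k] (f : MvPolynomial (Fin 2) k) (a : Fin 2 → k) :
    Nonempty ((MvPowerSeries (Fin 2) k ⧸ Ideal.span {φ a f}) ≃ₐ[k]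
      (MvPowerSeries (Fin 2) k ⧸ Ideal.span ({MvPowerSeries.X 1 ^ 2} : Set (MvPowerSeries (Fin 2) k)))) ↔
    ∃ g h : MvPolynomial (Fin 2) k, f = g ^ 2 * h ∧ MvPolynomial.eval a h ≠ 0 ∧ MvPolynomial.eval a g = 0 ∧
      ∃ i : Fin 2, MvPolynomial.eval a (MvPolynomial.pderiv i g) ≠ 0 := by
  classical
  constructor
  · rintro ⟨e⟩
    have hF := mem_sq_of_equiv e
    obtain ⟨θ, c, hc, hFc⟩ := exists_unit_mul_sq e
    set G : T := θ (MvPowerSeries.X 0) with hG
    have hGp : Prime G := (MulEquiv.prime_iff θ.toMulEquiv).2 prime_X0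
    haveI hGI : (Ideal.span {G}).IsPrime := (Ideal.span_singleton_prime hGp.ne_zero).2 hGp
    have hG1 : G ∈ XI (Fin 2) k := equiv_mem_XI θ (Ideal.subset_span ⟨0, rfl⟩)
    set P : Ideal (MvPolynomial (Fin 2) k) := (Ideal.span {G}).comap (φ a) with hP
    haveI : P.IsPrime := Ideal.comap_isPrime _ _
    have hPa : ∀ q ∈ P, MvPolynomial.eval a q = 0 := fun q hq => by
      rw [← constantCoeff_φ]
      exact mem_iff_constantCoeff.1 ((Ideal.span_singleton_le_iff_mem (I := XI (Fin 2) k)).2 hG1 hq)
    have hfP : f ∈ P := by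
      rw [hP, Ideal.mem_comap, Ideal.mem_span_singleton, hFc]
      exact (dvd_pow_self G two_ne_zero).mul_left c
    have hne : ¬ ∀ l : Fin 2, G ∣ MvPowerSeries.X l := by
      intro h
      choose w hw using h
      have h' : ∀ l j : Fin 2, (if j = l then (1 : k) else 0) =
          MvPowerSeries.constantCoeff (w l) * MvPowerSeries.coeff (Finsupp.single j 1) G := fun l j => by
        rw [← coeff_single_mul (w l) G (mem_iff_constantCoeff.1 hG1), mul_comm, ← hw,
          MvPowerSeries.coeff_index_single_X]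
      have h00 := h' 0 0
      have h01 := h' 0 1
      have h11 := h' 1 1
      simp only [if_true, show (1 : Fin 2) ≠ 0 by decide, if_false] at h00 h01 h11
      rcases mul_eq_zero.1 h01.symm with h | h
      · rw [h, zero_mul] at h00; exact one_ne_zero h00
      · rw [h, mul_zero] at h11; exact one_ne_zero h11
    have hf0 : f ≠ 0 := by
      intro h
      rw [h, map_zero] at hFc
      rcases mul_eq_zero.1 hFc.symm with h0 | h0
      · exact hc.ne_zero h0
      · exact pow_ne_zero 2 hGp.ne_zero h0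
    obtain ⟨q, hqP, hq⟩ := Ideal.IsPrime.exists_mem_prime_of_ne_bot (inferInstance : P.IsPrime)
      (fun h => hf0 ((Submodule.eq_bot_iff _).1 h f hfP))
    have hPq : P = Ideal.span {q} := by
      by_contra hne'
      haveI hqI : (Ideal.span {q}).IsPrime := (Ideal.span_singleton_prime hq.ne_zero).2 hq
      haveI hmI : (RingHom.ker (MvPolynomial.eval a)).IsPrime := RingHom.ker_isPrime _
      have l1 : (⊥ : Ideal (MvPolynomial (Fin 2) k)) < Ideal.span {q} :=
        bot_lt_iff_ne_bot.2 (by simpa using hq.ne_zero)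
      have l2 : Ideal.span {q} < P :=
        lt_of_le_of_ne ((Ideal.span_singleton_le_iff_mem _).2 hqP) (Ne.symm hne')
      have l3 : P < RingHom.ker (MvPolynomial.eval a) := by
        refine lt_of_le_of_ne (fun x hx => RingHom.mem_ker.2 (hPa x hx)) fun he => hne fun l => ?_
        have : (shift a).symm (MvPolynomial.X l) ∈ P := by
          rw [he, RingHom.mem_ker]
          simp [shift]
        rw [hP, Ideal.mem_comap, Ideal.mem_span_singleton, φ_apply, AlgEquiv.apply_symm_apply,
          MvPolynomial.coe_X] at this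
        exact this
      let s : LTSeries (PrimeSpectrum (MvPolynomial (Fin 2) k)) :=
        ((((RelSeries.singleton _ ⟨⊥, Ideal.bot_prime⟩).snoc ⟨Ideal.span {q}, hqI⟩ l1).snoc
          ⟨P, inferInstance⟩ (by rw [RelSeries.last_snoc]; exact l2)).snoc ⟨_, hmI⟩ (by rw [RelSeries.last_snoc]; exact l3))
      have hle := Order.LTSeries.length_le_krullDim s
      have hd : ringKrullDim (MvPolynomial (Fin 2) k) = 2 := by simp
      rw [ringKrullDim] at hd
      rw [hd] at hle
      exact absurd (by exact_mod_cast hle : (3 : ℕ) ≤ 2) (by omega)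
    obtain ⟨f', hf'⟩ : q ∣ f := Ideal.mem_span_singleton.1 (hPq ▸ hfP)
    have hdf : ∀ i, q ∣ MvPolynomial.pderiv i f := fun i => by
      rw [← Ideal.mem_span_singleton, ← hPq, hP, Ideal.mem_comap, ← pderiv_φ, hFc, Derivation.leibniz,
        Derivation.leibniz_pow, Ideal.mem_span_singleton]
      refine dvd_add ?_ ?_
      · simp only [smul_eq_mul, nsmul_eq_mul]
        exact Dvd.dvd.mul_left (Dvd.dvd.mul_left (Dvd.dvd.mul_right (by simp) _) _) _
      · exact Dvd.dvd.mul_right (dvd_pow_self G two_ne_zero) _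
    have hq2 : q ∣ f' := by
      by_contra hn
      obtain ⟨i, hi⟩ := exists_pderiv_ne_zero q hq.irreducible
      have h := hdf i
      rw [hf', MvPolynomial.pderiv_mul] at h
      have h2 := (hq.dvd_or_dvd ((dvd_add_left (dvd_mul_right q _)).1 h)).resolve_right hn
      obtain ⟨e', he'⟩ := h2
      have hd := totalDegree_pderiv_lt q i hi
      rw [he', MvPolynomial.totalDegree_mul_of_isDomain hq.ne_zero (fun h0 => hi (by rw [he', h0, mul_zero]))] at hd
      omega
    obtain ⟨h, rfl⟩ := hq2
    have hqa := hPa q hqP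
    have hQ1 : φ a q ∈ XI (Fin 2) k := mem_iff_constantCoeff.2 (by rw [constantCoeff_φ]; exact hqa)
    have h3 : φ a f ∉ XI (Fin 2) k ^ 3 := fun h3 => X_sq_not_mem_cube (0 : Fin 2) (by
      obtain ⟨c', hc'⟩ := hc.exists_left_inv
      have h4 := equiv_mem_pow θ.symm (Ideal.mul_mem_left _ c' h3)
      rwa [hFc, ← mul_assoc, hc', one_mul, hG, map_pow, AlgEquiv.symm_apply_apply] at h4)
    have hfe : φ a f = φ a q ^ 2 * φ a h := by rw [← map_pow, ← map_mul, hf']; ring_nf
    refine ⟨q, h, by rw [hf']; ring, fun h0 => h3 ?_, hqa, ?_⟩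
    · rw [hfe, pow_succ (XI (Fin 2) k) 2]
      exact Ideal.mul_mem_mul (Ideal.pow_mem_pow hQ1 2) (mem_iff_constantCoeff.2 (by rw [constantCoeff_φ]; exact h0))
    · by_contra! hd
      refine h3 (hfe ▸ Ideal.mul_mem_right _ _ (Ideal.pow_le_pow_right (show 3 ≤ 4 by omega) ?_))
      rw [show (4 : ℕ) = 2 * 2 from rfl, pow_mul]
      exact Ideal.pow_mem_pow (mem_sq_iff.2 ⟨mem_iff_constantCoeff.1 hQ1, fun i => by
        rw [← constantCoeff_pderiv, pderiv_φ, constantCoeff_φ]; exact hd i⟩) 2
  · rintro ⟨g, h, rfl, hh, hg, i, hi⟩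
    obtain ⟨θ, hθ⟩ := exists_equiv (Function.update (fun _ => (φ a g : T)) (1 - i) (MvPowerSeries.X (1 - i)))
      (fun b => by
        rw [Function.update_apply]
        split_ifs
        · simp
        · rw [constantCoeff_φ]; exact hg)
      (by
        have hc : MvPowerSeries.coeff (Finsupp.single i 1) (φ a g) ≠ 0 := by
          rwa [← constantCoeff_pderiv, pderiv_φ, constantCoeff_φ]
        rw [Matrix.det_fin_two]
        fin_cases i <;> simp [lin, MvPowerSeries.coeff_index_single_X] at hc ⊢ <;> exact hc)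
    have hθi : θ (MvPowerSeries.X i) = φ a g := by
      rw [hθ, Function.update_of_ne]
      fin_cases i <;> decide
    have hu : IsUnit (φ a h) := by
      rw [MvPowerSeries.isUnit_iff_constantCoeff, constantCoeff_φ, isUnit_iff_ne_zero]; exact hh
    let σ : T ≃ₐ[k] T := MvPowerSeries.renameEquiv (R := k) (Equiv.swap i 1)
    have hσ : σ (MvPowerSeries.X 1) = MvPowerSeries.X i := by
      show MvPowerSeries.rename (Equiv.swap i 1) (MvPowerSeries.X 1) = _
      rw [MvPowerSeries.rename_X, Equiv.swap_apply_right]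
    refine ⟨(Ideal.quotientEquivAlg _ _ (σ.trans θ) ?_).symm⟩
    rw [Ideal.map_span, Set.image_singleton]
    show Ideal.span {φ a (g ^ 2 * h)} = Ideal.span {(σ.trans θ) (MvPowerSeries.X 1 ^ 2)}
    rw [map_mul, map_pow, map_pow, AlgEquiv.trans_apply, hσ, hθi,
      Ideal.span_singleton_mul_right_unit hu]

end Plane

end Groth.Agent.Lib.ArSing99.DoubleLine
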