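import Groth.Agent.Lib.ArSing99.Param
import Mathlib.RingTheory.UniqueFactorizationDomain.Multiplicity
import Mathlib.RingTheory.PrincipalIdealDomain

/-!
# Involutions of `k[[x, y]]/(y^2 - x^(r+1))`, `r ≥ 2`
-/

set_option autoImplicit false

noncomputable section

universe u

namespace Groth.Agent.Lib.ArSing99

open Groth.Agent.H95.NodeSwap (hom_ext hom_ext₁)

variable {k : Type u} [Field k] {r : ℕ} [NeZero (2 : k)]

local notation "MPS" => MvPowerSeries (Fin 2) k
local notation "PS" => PowerSeries k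
local notation "A" => ArSing.ring k r

theorem injective_of_surjective_endo {B : Type u} [CommRing B] [IsNoetherianRing B] (f : B →+* B)
    (hf : Function.Surjective f) : Function.Injective f := by
  obtain ⟨j, hj⟩ := monotone_stabilizes_iff_noetherian.2 (inferInstance : IsNoetherian B B)
    ⟨fun j => RingHom.ker (f ^ j), monotone_nat_of_le_succ fun j a ha => by
      rw [RingHom.mem_ker] at ha ⊢
      rw [pow_succ', RingHom.mul_def, RingHom.comp_apply, ha, map_zero]⟩
  refine (injective_iff_map_eq_zero f).2 fun a ha => ?_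
  have hsur : Function.Surjective (f ^ j : B →+* B) := by rw [RingHom.coe_pow]; exact hf.iterate j
  obtain ⟨b, rfl⟩ := hsur a
  have h1 : b ∈ RingHom.ker (f ^ (j + 1)) := by
    rw [RingHom.mem_ker, pow_succ', RingHom.mul_def, RingHom.comp_apply, ha]
  have h2 : RingHom.ker (f ^ j) = RingHom.ker (f ^ (j + 1)) := hj (j + 1) (Nat.le_succ j)
  rw [← h2] at h1
  exact h1

theorem cx_neg (z : A) : cx (-z) = -cx z := by
  have := cx_add z (-z)
  rw [add_neg_cancel, show (0 : A) = algebraMap k A 0 from (map_zero _).symm, cx_algebraMap] at this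
  linear_combination -this

theorem cy_neg (z : A) : cy (-z) = -cy z := by
  have := cy_add z (-z)
  rw [add_neg_cancel, show (0 : A) = algebraMap k A 0 from (map_zero _).symm, cy_algebraMap] at this
  linear_combination -this

theorem ev0_map (σ : A ≃ₐ[k] A) {z : A} (hz : ev0 z = 0) : ev0 (σ z) = 0 := by
  by_contra h
  have := (isUnit_iff.2 h).map σ.symm
  rw [AlgEquiv.symm_apply_apply, isUnit_iff] at this
  exact this hz

/-- The shape of the square of a parameter. -/
theorem eq_X_pow_mul [IsAlgClosed k] (hr : 2 ≤ r) {x' y' : A} (hx : ev0 x' = 0) (hy : ev0 y' = 0)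
    (hc : cx x' ≠ 0) (hD : cx x' * cy y' - cx y' * cy x' ≠ 0) {R : PS} (hR : y' ^ 2 = θ x' hx R) :
    ∃ U : PS, PowerSeries.constantCoeff U ≠ 0 ∧ R = PowerSeries.X ^ (r + 1) * U := by
  have hR0 : R ≠ 0 := by
    rintro rfl
    rw [map_zero] at hR
    have h0 : y' = 0 := eq_zero_of_br (pow_eq_zero_iff two_ne_zero |>.1 (by rw [← map_pow, hR, map_zero]))
      (pow_eq_zero_iff two_ne_zero |>.1 (by rw [← map_pow, hR, map_zero]))
    refine hD ?_
    rw [h0, show (0 : A) = algebraMap k A 0 from (map_zero _).symm, cx_algebraMap, cy_algebraMap]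
    ring
  set j := R.order.toNat
  set U := R.divXPowOrder
  have hRU : PowerSeries.X ^ j * U = R := PowerSeries.X_pow_order_mul_divXPowOrder
  have hU : PowerSeries.constantCoeff U ≠ 0 := by
    rw [Ne, PowerSeries.constantCoeff_divXPowOrder_eq_zero_iff]; exact hR0
  -- lowest coefficient on the branches
  have key : ∀ (s : k) (hs : s ^ 2 = 1) (i : ℕ) (S : PS),
      ∃ W : PS, br r s hs (θ x' hx (PowerSeries.X ^ i * S)) = PowerSeries.X ^ (2 * i) * W ∧
        PowerSeries.constantCoeff W = cx x' ^ i * PowerSeries.constantCoeff S := by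
    intro s hs i S
    obtain ⟨G, hG⟩ := X_sq_dvd_br (by omega) s hs hx
    have hG0 : PowerSeries.constantCoeff G = cx x' := by
      rw [← coeff_two_br hr s hs x', hG, PowerSeries.coeff_X_pow_mul', if_pos le_rfl]; simp
    refine ⟨G ^ i * br r s hs (θ x' hx S), ?_, ?_⟩
    · rw [map_mul, map_pow, θ_X, map_mul, map_pow, hG, mul_pow, ← pow_mul, mul_assoc]
    · rw [map_mul, map_pow, hG0, constantCoeff_br, ev0_θ]
  have low : ∀ (s : k) (hs : s ^ 2 = 1), (∀ m < j, PowerSeries.coeff m (br r s hs y') = 0) ∧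
      PowerSeries.coeff j (br r s hs y') ≠ 0 := by
    intro s hs
    obtain ⟨W, hW, hW0⟩ := key s hs j U
    rw [hRU, ← hR, map_pow, mul_comm 2 j, pow_mul] at hW
    obtain ⟨F, hF⟩ : (PowerSeries.X : PS) ^ j ∣ br r s hs y' :=
      (UniqueFactorizationMonoid.pow_dvd_pow_iff_dvd two_ne_zero).1 ⟨W, hW⟩
    refine ⟨fun m hm => (PowerSeries.X_pow_dvd_iff.1 ⟨F, hF⟩) m hm, ?_⟩
    rw [hF, mul_pow] at hW
    have h2 := congrArg PowerSeries.constantCoeff
      (mul_left_cancel₀ (pow_ne_zero 2 (pow_ne_zero j PowerSeries.X_ne_zero)) hW)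
    rw [map_pow, hW0] at h2
    rw [hF, PowerSeries.coeff_X_pow_mul', if_pos le_rfl, Nat.sub_self,
      PowerSeries.coeff_zero_eq_constantCoeff_apply]
    exact fun h => mul_ne_zero (pow_ne_zero j hc) hU (by rw [← h2, h]; ring)
  rcases lt_trichotomy j (r + 1) with hlt | heq | hgt
  · exfalso
    have hsame : ∀ (s : k) (hs : s ^ 2 = 1), PowerSeries.coeff j (br r s hs y') =
        if 2 ∣ j then PowerSeries.coeff (j / 2) (coP y') else 0 := fun s hs => by
      rw [br_co, if_neg (show ¬ (r + 1 ≤ j ∧ 2 ∣ j - (r + 1)) from fun h => by omega), add_zero]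
    by_cases hj : 2 ∣ j
    swap
    · exact (low 1 (one_pow 2)).2 (by rw [hsame, if_neg hj])
    obtain ⟨i, hi⟩ := hj
    obtain ⟨V, hV0, hV⟩ := exists_root hU (n := 2) two_ne
    let T := θ x' hx (PowerSeries.X ^ i * V)
    have hsq : y' ^ 2 = T ^ 2 := by
      rw [hR, ← hRU, ← hV, ← map_pow, mul_pow, ← pow_mul, hi, mul_comm i 2]
    have hor : ∀ (s : k) (hs : s ^ 2 = 1),
        br r s hs y' = br r s hs T ∨ br r s hs y' = -br r s hs T := fun s hs => by
      rw [← sq_eq_sq_iff_eq_or_eq_neg, ← map_pow, ← map_pow, hsq]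
    have hT : ∀ (s : k) (hs : s ^ 2 = 1),
        PowerSeries.coeff j (br r s hs T) = cx x' ^ i * PowerSeries.constantCoeff V := fun s hs => by
      obtain ⟨W, hW, hW0⟩ := key s hs i V
      rw [show br r s hs T = _ from hW, hi, PowerSeries.coeff_X_pow_mul', if_pos le_rfl, Nat.sub_self,
        PowerSeries.coeff_zero_eq_constantCoeff_apply, hW0]
    have hT0 : cx x' ^ i * PowerSeries.constantCoeff V ≠ 0 := mul_ne_zero (pow_ne_zero i hc) hV0
    have heqs := (hsame 1 (one_pow 2)).trans (hsame (-1) neg_one_sq).symm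
    have hfin : y' = T ∨ y' = -T := by
      rcases hor 1 (one_pow 2) with h1 | h1 <;> rcases hor (-1) neg_one_sq with h2 | h2
      · left; rw [← sub_eq_zero]
        exact eq_zero_of_br (by rw [map_sub, h1, sub_self]) (by rw [map_sub, h2, sub_self])
      · exfalso; rw [h1, h2, map_neg, hT, hT] at heqs
        exact hT0 ((mul_eq_zero.1 (by linear_combination heqs : (2 : k) * _ = 0)).resolve_left two_ne)
      · exfalso; rw [h1, h2, map_neg, hT, hT] at heqs
        exact hT0 ((mul_eq_zero.1 (by linear_combination -heqs : (2 : k) * _ = 0)).resolve_left two_ne)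
      · right; rw [← sub_eq_zero, sub_neg_eq_add]
        exact eq_zero_of_br (by rw [map_add, h1, neg_add_cancel]) (by rw [map_add, h2, neg_add_cancel])
    refine hD ?_
    rcases hfin with h | h <;> rw [h]
    · rw [cx_θ (by omega), cy_θ]; ring
    · rw [cx_neg, cy_neg, cx_θ (by omega), cy_θ]; ring
  · exact ⟨U, hU, by rw [← hRU, heq]⟩
  · exfalso
    have h2 : cx y' = 0 := by rw [← coeff_two_br hr 1 (one_pow 2)]; exact (low 1 (one_pow 2)).1 2 (by omega)
    have ha := (low 1 (one_pow 2)).1 (r + 1) hgt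
    have hb := (low (-1) neg_one_sq).1 (r + 1) hgt
    rw [br_co, if_pos (show r + 1 ≤ r + 1 ∧ 2 ∣ r + 1 - (r + 1) from ⟨le_rfl, by simp⟩)] at ha hb
    simp only [Nat.sub_self, Nat.zero_div, PowerSeries.coeff_zero_eq_constantCoeff_apply] at ha hb
    have h3 : cy y' = 0 := (mul_eq_zero.1 (show (2 : k) * cy y' = 0 by
      unfold cy; linear_combination ha - hb)).resolve_left two_ne
    exact hD (by rw [h2, h3]; ring)

/-- `t ↦ a t`. -/
def res (a : k) : PS →ₐ[k] PS :=
  { PowerSeries.rescale a with commutes' := fun c => by ext m; cases m <;> simp [PowerSeries.coeff_rescale, ← PowerSeries.C_eq_algebraMap, PowerSeries.coeff_C] }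

theorem res_apply (a : k) (f : PS) : res a f = PowerSeries.rescale a f := rfl

theorem res_res {a : k} (ha : a * a = 1) (f : PS) : res a (res a f) = f := by
  rw [res_apply, res_apply, PowerSeries.rescale_rescale, ha, PowerSeries.rescale_one]; rfl

/-- The classification of involutions. -/
theorem conj_normal [IsAlgClosed k] (hr : 2 ≤ r) (hr1 : ((r + 1 : ℕ) : k) ≠ 0)
    (σ : A ≃ₐ[k] A) (hσ : ∀ z, σ (σ z) = z) (hne : σ ≠ AlgEquiv.refl) :
    ∃ (φ : A ≃ₐ[k] A) (a e : k), (a = 1 ∨ a = -1) ∧ (e = 1 ∨ e = -1) ∧ ¬(a = 1 ∧ e = 1) ∧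
      a ^ (r + 1) = 1 ∧ φ.symm (σ (φ (ArSing.x k r))) = algebraMap k A a * ArSing.x k r ∧
      φ.symm (σ (φ (ArSing.y k r))) = algebraMap k A e * ArSing.y k r := by
  have h2 : (2 : k) ≠ 0 := two_ne
  have hr0 : 1 ≤ r := by omega
  -- eigen-parameters
  obtain ⟨a, ha, hca⟩ : ∃ a : k, (a = 1 ∨ a = -1) ∧ 1 + a * cx (σ (ArSing.x k r)) ≠ 0 := by
    by_cases h : cx (σ (ArSing.x k r)) = -1
    · exact ⟨-1, .inr rfl, by rw [h]; ring_nf; exact h2⟩
    · exact ⟨1, .inl rfl, fun h' => h (by linear_combination h')⟩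
  obtain ⟨e, he, hce⟩ : ∃ e : k, (e = 1 ∨ e = -1) ∧ 1 + e * cy (σ (ArSing.y k r)) ≠ 0 := by
    by_cases h : cy (σ (ArSing.y k r)) = -1
    · exact ⟨-1, .inr rfl, by rw [h]; ring_nf; exact h2⟩
    · exact ⟨1, .inl rfl, fun h' => h (by linear_combination h')⟩
  have haa : a * a = 1 := by rcases ha with rfl | rfl <;> ring
  have hee : e * e = 1 := by rcases he with rfl | rfl <;> ring
  have hcy : cx (σ (ArSing.y k r)) = 0 := by
    obtain ⟨F, hF⟩ := X_sq_dvd_br hr0 (1 : k) (one_pow 2) (ev0_map σ (ev0_y (r := r)))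
    obtain ⟨G, hG⟩ := X_sq_dvd_br hr0 (1 : k) (one_pow 2) (ev0_map σ (ev0_x (r := r)))
    have h := congrArg (fun z => br r (1 : k) (one_pow 2) (σ z)) (y_sq (k := k) r)
    simp only [map_pow, hF, hG, mul_pow, ← pow_mul] at h
    have h4 := congrArg (PowerSeries.coeff 4) h
    rw [PowerSeries.coeff_X_pow_mul', if_pos le_rfl, PowerSeries.coeff_X_pow_mul',
      if_neg (by omega), Nat.sub_self, PowerSeries.coeff_zero_eq_constantCoeff_apply, map_pow] at h4
    rw [← coeff_two_br hr 1 (one_pow 2), hF, PowerSeries.coeff_X_pow_mul', if_pos le_rfl, Nat.sub_self,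
      PowerSeries.coeff_zero_eq_constantCoeff_apply]
    exact (pow_eq_zero_iff two_ne_zero).1 h4
  obtain ⟨x', hx'd⟩ : ∃ t, t = algebraMap k A 2⁻¹ * (ArSing.x k r + algebraMap k A a * σ (ArSing.x k r)) := ⟨_, rfl⟩
  obtain ⟨y', hy'd⟩ : ∃ t, t = algebraMap k A 2⁻¹ * (ArSing.y k r + algebraMap k A e * σ (ArSing.y k r)) := ⟨_, rfl⟩
  have hx : ev0 x' = 0 := by simp [hx'd, ev0_x, ev0_map σ (ev0_x (r := r))]
  have hy : ev0 y' = 0 := by simp [hy'd, ev0_y, ev0_map σ (ev0_y (r := r))]
  have haA : algebraMap k A a * algebraMap k A a = 1 := by rw [← map_mul, haa, map_one]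
  have heA : algebraMap k A e * algebraMap k A e = 1 := by rw [← map_mul, hee, map_one]
  have hσx : σ x' = algebraMap k A a * x' := by
    simp only [hx'd, map_mul, map_add, AlgEquiv.commutes, hσ]
    linear_combination (-(algebraMap k A 2⁻¹ * σ (ArSing.x k r))) * haA
  have hσy : σ y' = algebraMap k A e * y' := by
    simp only [hy'd, map_mul, map_add, AlgEquiv.commutes, hσ]
    linear_combination (-(algebraMap k A 2⁻¹ * σ (ArSing.y k r))) * heA
  have ecx : cx x' = 2⁻¹ * (1 + a * cx (σ (ArSing.x k r))) := by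
    simp [hx'd, cx_smul hr0, cx_add, cx_x]
  have hc : cx x' ≠ 0 := by rw [ecx]; exact mul_ne_zero (inv_ne_zero h2) hca
  have hy0 : cx y' = 0 := by simp [hy'd, cx_smul hr0, cx_add, cx_y, hcy]
  have hD : cx x' * cy y' - cx y' * cy x' ≠ 0 := by
    rw [hy0, zero_mul, sub_zero]
    refine mul_ne_zero hc ?_
    simp only [hy'd, cy_smul, cy_add, cy_y]
    exact mul_ne_zero (inv_ne_zero h2) hce
  -- completing the square
  have hσθ : ∀ S, σ (θ x' hx S) = θ x' hx (res a S) := fun S => by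
    refine AlgHom.congr_fun (hom_extA (σ.toAlgHom.comp (θ x' hx)) ((θ x' hx).comp (res a)) ?_ ?_) S
    · simp only [AlgHom.comp_apply, AlgEquiv.coe_toAlgHom, θ_X]
      rw [res_apply, PowerSeries.rescale_X, map_mul, θ_X, PowerSeries.C_eq_algebraMap, AlgHom.commutes, hσx]
    · simp [θ_X, ev0_map σ hx]
  obtain ⟨P, Q, hPQ⟩ := exists_θ hr hx hy hc hD (y' ^ 2)
  have hPQ' : y' ^ 2 = θ x' hx (res a P) + algebraMap k A e * θ x' hx (res a Q) * y' := by
    have h := congrArg σ hPQ
    simp only [map_pow, map_add, map_mul, hσθ, hσy] at h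
    linear_combination h - y' ^ 2 * heA
  let P₁ := algebraMap k PS 2⁻¹ * (P + res a P)
  let Q₁ := algebraMap k PS 2⁻¹ * (Q + algebraMap k PS e * res a Q)
  have h22 : algebraMap k A 2⁻¹ + algebraMap k A 2⁻¹ = 1 := by
    rw [← map_add, ← two_mul, mul_inv_cancel₀ h2, map_one]
  have hsq : y' ^ 2 = θ x' hx P₁ + θ x' hx Q₁ * y' := by
    simp only [P₁, Q₁, map_mul, map_add, AlgHom.commutes]
    linear_combination algebraMap k A 2⁻¹ * hPQ + algebraMap k A 2⁻¹ * hPQ' - y' ^ 2 * h22
  have hQ0 : PowerSeries.constantCoeff Q₁ = 0 := by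
    have e1 := congrArg cx hsq
    have e2 := congrArg cy hsq
    rw [cx_add, sq, cx_mul hr0, cx_mul hr0, cx_θ hr0, ev0_θ, hy] at e1
    rw [cy_add, sq, cy_mul, cy_mul, cy_θ, ev0_θ, hy] at e2
    exact (mul_eq_zero.1 (show PowerSeries.constantCoeff Q₁ * (cx x' * cy y' - cx y' * cy x') = 0 by
      linear_combination cy x' * e1 - cx x' * e2)).resolve_right hD
  have hQe : res a Q₁ = algebraMap k PS e * Q₁ := by
    simp only [Q₁, map_mul, map_add, AlgHom.commutes, res_res haa]
    have : algebraMap k PS e * algebraMap k PS e = 1 := by rw [← map_mul, hee, map_one]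
    linear_combination (-(algebraMap k PS 2⁻¹ * res a Q)) * this
  let y'' := y' - algebraMap k A 2⁻¹ * θ x' hx Q₁
  let R := P₁ + algebraMap k PS (2⁻¹ * 2⁻¹) * Q₁ ^ 2
  have hy'' : ev0 y'' = 0 := by simp [y'', hy, ev0_θ, hQ0]
  have hσy'' : σ y'' = algebraMap k A e * y'' := by
    simp only [y'', map_sub, map_mul, AlgEquiv.commutes, hσθ, hQe, AlgHom.commutes, hσy]
    ring
  have hR : y'' ^ 2 = θ x' hx R := by
    simp only [y'', R, map_add, map_mul, map_pow, AlgHom.commutes]
    linear_combination hsq - θ x' hx Q₁ * y' * h22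
  have hres : res a R = R := by
    simp only [R, map_add, map_mul, map_pow, AlgHom.commutes, hQe, P₁, res_res haa]
    have : algebraMap k PS e * algebraMap k PS e = 1 := by rw [← map_mul, hee, map_one]
    linear_combination (algebraMap k PS 2⁻¹ * algebraMap k PS 2⁻¹ * Q₁ ^ 2) * this
  have hD'' : cx x' * cy y'' - cx y'' * cy x' ≠ 0 := by
    simp only [y'', sub_eq_add_neg, cx_add, cy_add, cx_neg, cy_neg, cx_smul hr0, cy_smul, cx_θ hr0, cy_θ]
    convert hD using 1; ring
  obtain ⟨U, hU, hRU⟩ := eq_X_pow_mul hr hx hy'' hc hD'' hR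
  have han : a ^ (r + 1) = 1 := by
    have h := congrArg (PowerSeries.coeff (r + 1)) hres
    rw [res_apply, PowerSeries.coeff_rescale] at h
    have hc1 : PowerSeries.coeff (r + 1) R = PowerSeries.constantCoeff U := by
      rw [hRU, PowerSeries.coeff_X_pow_mul', if_pos le_rfl, Nat.sub_self,
        PowerSeries.coeff_zero_eq_constantCoeff_apply]
    rw [hc1] at h
    exact mul_left_eq_self₀.1 h |>.resolve_right hU
  obtain ⟨V, hV0, hV⟩ := exists_root hU hr1
  have hresU : res a U = U := by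
    have h := hres
    rw [hRU, map_mul, map_pow, show res a PowerSeries.X = PowerSeries.C a * PowerSeries.X from PowerSeries.rescale_X a,
      mul_pow, ← map_pow, han, map_one, one_mul] at h
    exact mul_left_cancel₀ (pow_ne_zero _ PowerSeries.X_ne_zero) h
  have hresV : res a V = V := by
    have h : (res a V) ^ (r + 1) = V ^ (r + 1) := by rw [← map_pow, hV, hresU]
    rw [← sub_eq_zero] at h ⊢
    rw [← geom_sum₂_mul] at h
    refine (mul_eq_zero.1 h).resolve_left fun h0 => ?_
    have h1 := congrArg PowerSeries.constantCoeff h0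
    have hcV : PowerSeries.constantCoeff (res a V) = PowerSeries.constantCoeff V := by
      rw [← PowerSeries.coeff_zero_eq_constantCoeff_apply, ← PowerSeries.coeff_zero_eq_constantCoeff_apply,
        res_apply, PowerSeries.coeff_rescale, pow_zero, one_mul]
    simp only [map_sum, map_mul, map_pow, hcV, map_zero, ← pow_add] at h1
    rw [Finset.sum_congr rfl (fun i hi => by
      rw [show i + (r + 1 - 1 - i) = r by have := Finset.mem_range.1 hi; omega]), Finset.sum_const,
      Finset.card_range, nsmul_eq_mul, mul_eq_zero] at h1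
    exact h1.elim hr1 (pow_ne_zero r hV0)
  -- the automorphism
  let x'' := x' * θ x' hx V
  have hx'' : ev0 x'' = 0 := by simp [x'', hx]
  have hσx'' : σ x'' = algebraMap k A a * x'' := by
    simp only [x'', map_mul, hσx, hσθ, hresV]; ring
  have hrel : y'' ^ 2 = x'' ^ (r + 1) := by
    rw [hR, hRU, mul_pow, map_mul, map_pow, θ_X, ← map_pow, hV]
  have hc'' : cx x'' ≠ 0 := by
    simp only [x'', cx_mul hr0, hx, ev0_θ, zero_mul, zero_add]; exact mul_ne_zero hc hV0
  have hDfin : cx x'' * cy y'' - cx y'' * cy x'' ≠ 0 := by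
    simp only [x'', cx_mul hr0, cy_mul, hx, ev0_θ, zero_mul, zero_add]
    convert mul_ne_zero hD'' hV0 using 1; ring
  have hs : MvPowerSeries.HasSubst (![rep x'', rep y''] : Fin 2 → MPS) :=
    MvPowerSeries.hasSubst_of_constantCoeff_zero fun i => by
      fin_cases i
      · exact (constantCoeff_rep x'').trans hx''
      · exact (constantCoeff_rep y'').trans hy''
  let Φ : A →ₐ[k] A := Ideal.Quotient.liftₐ _
    ((Ideal.Quotient.mkₐ k (Ideal.span {ArSing.eqn k r})).comp (MvPowerSeries.substAlgHom hs)) fun z hz => by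
      obtain ⟨c, rfl⟩ := Ideal.mem_span_singleton'.1 hz
      rw [map_mul]
      refine mul_eq_zero_of_right _ ?_
      show Ideal.Quotient.mk (Ideal.span {ArSing.eqn k r})
        (MvPowerSeries.substAlgHom hs (MvPowerSeries.X 1 ^ 2 - MvPowerSeries.X 0 ^ (r + 1))) = 0
      rw [map_sub, map_pow, map_pow, MvPowerSeries.substAlgHom_X,
        MvPowerSeries.substAlgHom_X, map_sub, map_pow, map_pow]
      simp only [Matrix.cons_val_zero, Matrix.cons_val_one, mk_rep, hrel, sub_self]
  have hΦx : Φ (ArSing.x k r) = x'' := by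
    show Ideal.Quotient.mk _ (MvPowerSeries.substAlgHom hs (MvPowerSeries.X 0)) = _
    rw [MvPowerSeries.substAlgHom_X]; exact mk_rep x''
  have hΦy : Φ (ArSing.y k r) = y'' := by
    show Ideal.Quotient.mk _ (MvPowerSeries.substAlgHom hs (MvPowerSeries.X 1)) = _
    rw [MvPowerSeries.substAlgHom_X]; exact mk_rep y''
  have hΦθ : Φ.comp (ArSing.xMap k r) = θ x'' hx'' := hom_extA _ _ (by
    rw [AlgHom.comp_apply, xMap_X, θ_X, hΦx]) (by rw [AlgHom.comp_apply, xMap_X, hΦx, hx''])
  have hsur : Function.Surjective Φ := fun z => by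
    obtain ⟨P, Q, rfl⟩ := exists_θ hr hx'' hy'' hc'' hDfin z
    refine ⟨ArSing.xMap k r P + ArSing.xMap k r Q * ArSing.y k r, ?_⟩
    rw [map_add, map_mul, hΦy, ← hΦθ]; rfl
  let φ : A ≃ₐ[k] A := AlgEquiv.ofBijective Φ ⟨injective_of_surjective_endo Φ.toRingHom hsur, hsur⟩
  have hφ : ∀ z, φ z = Φ z := fun z => rfl
  refine ⟨φ, a, e, ha, he, ?_, han, ?_, ?_⟩
  · rintro ⟨rfl, rfl⟩
    refine hne (AlgEquiv.ext fun z => ?_)
    obtain ⟨w, rfl⟩ := hsur z
    refine AlgHom.congr_fun (hom_ext_x_y (ψ := σ.toAlgHom.comp Φ) (ψ' := Φ) ?_ ?_ ?_ ?_) w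
    · simp [hΦx, hσx'']
    · simp [hΦy, hσy'']
    · simp [hΦx, ev0_map σ hx'']
    · simp [hΦy, ev0_map σ hy'']
  · rw [AlgEquiv.symm_apply_eq, map_mul, AlgEquiv.commutes, hφ, hΦx, hσx'']
  · rw [AlgEquiv.symm_apply_eq, map_mul, AlgEquiv.commutes, hφ, hΦy, hσy'']

end Groth.Agent.Lib.ArSing99
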