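import Groth.Agent.Lib.ArSing99.Basic
import Mathlib.RingTheory.Henselian
import Mathlib.RingTheory.AdicCompletion.Completeness
import Mathlib.RingTheory.PowerSeries.Inverse
import Mathlib.FieldTheory.IsAlgClosed.Basic

/-!
# Changes of parameters in `k[[x, y]]/(y^2 - x^(r+1))`
-/

set_option autoImplicit false

noncomputable section

universe u

namespace Groth.Agent.Lib.ArSing99

open Groth.Agent.H95.NodeSwap (hom_ext hom_ext₁)

variable {k : Type u} [Field k] {r : ℕ} [NeZero (2 : k)]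

local notation "MPS" => MvPowerSeries (Fin 2) k
local notation "PS" => PowerSeries k
local notation "A" => ArSing.ring k r

/-- `t ↦ z`. -/
def θ (z : A) (hz : ev0 z = 0) : PS →ₐ[k] A :=
  (Ideal.Quotient.mkₐ k _).comp (PowerSeries.substAlgHom (PowerSeries.HasSubst.of_constantCoeff_zero
    (show MvPowerSeries.constantCoeff (rep z) = 0 by rw [constantCoeff_rep, hz])))

theorem θ_X (z : A) (hz : ev0 z = 0) : θ z hz PowerSeries.X = z := by
  rw [θ, AlgHom.comp_apply, PowerSeries.substAlgHom_X, Ideal.Quotient.mkₐ_eq_mk, mk_rep]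

theorem hom_extA (ψ ψ' : PS →ₐ[k] A) (h : ψ PowerSeries.X = ψ' PowerSeries.X)
    (hm : ev0 (ψ PowerSeries.X) = 0) : ψ = ψ' :=
  hom_ext₁ ψ ψ' (IsLocalRing.maximalIdeal A) (IsLocalRing.maximalIdeal.isMaximal A).ne_top h
    (mem_maximalIdeal.2 hm)

theorem θ_split (z : A) (hz : ev0 z = 0) (S : PS) :
    θ z hz S = algebraMap k A (PowerSeries.constantCoeff S) +
      z * θ z hz (PowerSeries.mk fun p => PowerSeries.coeff (p + 1) S) := by
  conv_lhs => rw [PowerSeries.eq_X_mul_shift_add_const S]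
  rw [map_add, map_mul, θ_X, PowerSeries.C_eq_algebraMap, AlgHom.commutes, add_comm]

theorem ev0_θ (z : A) (hz : ev0 z = 0) (S : PS) : ev0 (θ z hz S) = PowerSeries.constantCoeff S := by
  rw [θ_split z hz S, map_add, map_mul, hz, zero_mul, add_zero, AlgHom.commutes]; rfl

theorem cx_θ (hr : 1 ≤ r) (z : A) (hz : ev0 z = 0) (S : PS) :
    cx (θ z hz S) = PowerSeries.coeff 1 S * cx z := by
  rw [θ_split z hz S, cx_add, cx_algebraMap, cx_mul hr, hz, ev0_θ, ← PowerSeries.coeff_zero_eq_constantCoeff_apply,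
    PowerSeries.coeff_mk]
  ring

theorem cy_θ (z : A) (hz : ev0 z = 0) (S : PS) :
    cy (θ z hz S) = PowerSeries.coeff 1 S * cy z := by
  rw [θ_split z hz S, cy_add, cy_algebraMap, cy_mul, hz, ev0_θ, ← PowerSeries.coeff_zero_eq_constantCoeff_apply,
    PowerSeries.coeff_mk]
  ring

theorem constantCoeff_br (s : k) (hs : s ^ 2 = 1) (z : A) :
    PowerSeries.constantCoeff (br r s hs z) = ev0 z := by
  rw [← PowerSeries.coeff_zero_eq_constantCoeff_apply, br_co, if_pos (dvd_zero 2), if_neg (by omega), add_zero]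
  simp [ev0]

theorem X_sq_dvd_br (hr : 1 ≤ r) (s : k) (hs : s ^ 2 = 1) {z : A} (hz : ev0 z = 0) :
    (PowerSeries.X : PS) ^ 2 ∣ br r s hs z := by
  rw [PowerSeries.X_pow_dvd_iff]
  intro m hm
  rcases (show m = 0 ∨ m = 1 by omega) with rfl | rfl
  · rw [PowerSeries.coeff_zero_eq_constantCoeff_apply, constantCoeff_br, hz]
  · rw [br_co, if_neg (by omega), if_neg (by omega), add_zero]

theorem coeff_two_br (hr : 2 ≤ r) (s : k) (hs : s ^ 2 = 1) (z : A) :
    PowerSeries.coeff 2 (br r s hs z) = cx z := by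
  rw [br_co, if_pos dvd_rfl, if_neg (by omega), add_zero]; rfl

theorem hasSubst_brz (s : k) (hs : s ^ 2 = 1) {z : A} (hz : ev0 z = 0) :
    PowerSeries.HasSubst (br r s hs z) :=
  PowerSeries.HasSubst.of_constantCoeff_zero' (by rw [constantCoeff_br, hz])

theorem br_θ (s : k) (hs : s ^ 2 = 1) (z : A) (hz : ev0 z = 0) (S : PS) :
    br r s hs (θ z hz S) = PowerSeries.substAlgHom (hasSubst_brz s hs hz) S := by
  refine AlgHom.congr_fun (hom_ext₁ ((br r s hs).comp (θ z hz))
    (PowerSeries.substAlgHom (hasSubst_brz s hs hz)) (tI k) tI_ne_top ?_ ?_) S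
  · rw [AlgHom.comp_apply, θ_X, PowerSeries.substAlgHom_X]
  · rw [AlgHom.comp_apply, θ_X, mem_tI, constantCoeff_br, hz]

theorem exists_root [IsAlgClosed k] {U : PS} (hU : PowerSeries.constantCoeff U ≠ 0) {n : ℕ}
    (hn : (n : k) ≠ 0) : ∃ V : PS, PowerSeries.constantCoeff V ≠ 0 ∧ V ^ n = U := by
  have hn0 : 0 < n := Nat.pos_of_ne_zero fun h => hn (by simp [h])
  obtain ⟨v, hv⟩ := IsAlgClosed.exists_pow_nat_eq (PowerSeries.constantCoeff U) hn0
  have hv0 : v ≠ 0 := by rintro rfl; exact hU (by rw [← hv, zero_pow hn0.ne'])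
  obtain ⟨V, hV, hVv⟩ := HenselianRing.is_henselian (I := tI k)
    (Polynomial.X ^ n - Polynomial.C U) (Polynomial.monic_X_pow_sub_C _ hn0.ne')
    (PowerSeries.C v) (by rw [mem_tI]; simp [hv]) (by
      refine IsUnit.map _ ?_
      rw [Polynomial.derivative_sub, Polynomial.derivative_C, sub_zero, Polynomial.derivative_X_pow,
        Polynomial.eval_mul, Polynomial.eval_C, Polynomial.eval_pow, Polynomial.eval_X,
        PowerSeries.isUnit_iff_constantCoeff]
      simp [hn, hv0])
  refine ⟨V, ?_, sub_eq_zero.1 (by simpa [Polynomial.IsRoot.def] using hV)⟩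
  rw [mem_tI, map_sub, PowerSeries.constantCoeff_C, sub_eq_zero] at hVv
  rwa [hVv]

theorem mul_mem (hr : 2 ≤ r) {x' : A} (hx : ev0 x' = 0) (hc : cx x' ≠ 0) {p q : A}
    (hp : ev0 p = 0) (hq : ev0 q = 0) : p * q ∈ Ideal.span {x'} := by
  have key : ∀ z : A, ev0 z = 0 → ∃ a b : A, z = ArSing.x k r * a + ArSing.y k r * b ∧ ev0 a = cx z := by
    intro z hz
    have h0 : PowerSeries.constantCoeff (coP z) = 0 := hz
    refine ⟨ArSing.xMap k r (PowerSeries.mk fun p => PowerSeries.coeff (p + 1) (coP z)),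
      ArSing.xMap k r (coQ z), ?_, ?_⟩
    · conv_lhs => rw [co_spec z, PowerSeries.eq_X_mul_shift_add_const (coP z), h0]
      simp [xMap_X]; ring
    · show PowerSeries.constantCoeff (coP _) = _
      rw [(co_xMap _).1, ← PowerSeries.coeff_zero_eq_constantCoeff_apply, PowerSeries.coeff_mk]
      rfl
  obtain ⟨a, b, hab, ha⟩ := key x' hx
  obtain ⟨a', ha'⟩ := (isUnit_iff.2 (ha ▸ hc)).exists_left_inv
  set w := -(a' * b)
  have hd : x' ∣ ArSing.x k r - ArSing.y k r * w :=
    ⟨a', by linear_combination (-(ArSing.x k r)) * ha' - a' * hab⟩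
  obtain ⟨u, hu⟩ := (isUnit_iff (z := 1 - ArSing.y k r ^ (r - 1) * w ^ (r + 1))).2 (by
    rw [map_sub, map_one, map_mul, map_pow, ev0_y, zero_pow (by omega)]; simp)
  have hy2 : x' ∣ ArSing.y k r ^ 2 := by
    have h : ArSing.y k r ^ 2 * (↑u : A) = ArSing.x k r ^ (r + 1) - (ArSing.y k r * w) ^ (r + 1) := by
      rw [hu, ← y_sq (k := k) r, mul_pow, mul_sub, mul_one, ← mul_assoc, ← pow_add,
        show 2 + (r - 1) = r + 1 by omega]
    rw [← u.isUnit.dvd_mul_right (a := x'), h]
    exact hd.trans (sub_dvd_pow_sub_pow _ _ _)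
  obtain ⟨a1, b1, h1, -⟩ := key p hp
  obtain ⟨a2, b2, h2, -⟩ := key q hq
  rw [Ideal.mem_span_singleton,
    show p * q = (ArSing.x k r - ArSing.y k r * w) *
        (a1 * (ArSing.x k r * a2 + ArSing.y k r * b2) + a2 * (ArSing.y k r * w * a1 + ArSing.y k r * b1)) +
      ArSing.y k r ^ 2 * ((w * a1 + b1) * (w * a2 + b2)) by rw [h1, h2]; ring]
  exact dvd_add (hd.mul_right _) (hy2.mul_right _)

/-- New parameters generate. -/
theorem exists_θ (hr : 2 ≤ r) {x' y' : A} (hx : ev0 x' = 0) (hy : ev0 y' = 0) (hc : cx x' ≠ 0)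
    (hD : cx x' * cy y' - cx y' * cy x' ≠ 0) (z : A) :
    ∃ P Q : PS, z = θ x' hx P + θ x' hx Q * y' := by
  classical
  have hr1 : 1 ≤ r := by omega
  have lin : ∀ a b w : A, ev0 w = 0 → cx (w + (a * x' + b * y')) = cx w + (ev0 a * cx x' + ev0 b * cx y') ∧
      cy (w + (a * x' + b * y')) = cy w + (ev0 a * cy x' + ev0 b * cy y') := fun a b w hw => by
    rw [cx_add, cx_add, cy_add, cy_add, cx_mul hr1, cx_mul hr1, cy_mul, cy_mul, hx, hy]; simp
  have step : ∀ w : A, ∃ c : k × k, ∃ w' : A,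
      w = algebraMap k A c.1 + algebraMap k A c.2 * y' + x' * w' := by
    intro w
    let D := cx x' * cy y' - cx y' * cy x'
    let v := w - algebraMap k A (ev0 w)
    let c1 := (cx x' * cy v - cx v * cy x') / D
    let c0 := (cy y' * cx v - cx y' * cy v) / D
    have hv : ev0 v = 0 := by simp [v]
    -- the remainder has no constant and no linear part, so it is in `m^2`
    let ρ := v + (algebraMap k A (-c0) * x' + algebraMap k A (-c1) * y')
    have hρ : cx ρ = 0 ∧ cy ρ = 0 := by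
      obtain ⟨e1, e2⟩ := lin (algebraMap k A (-c0)) (algebraMap k A (-c1)) v hv
      rw [AlgHom.commutes, AlgHom.commutes] at e1 e2
      refine ⟨e1.trans ?_, e2.trans ?_⟩ <;>
        simp only [c0, c1, D, Algebra.algebraMap_self, RingHom.id_apply] <;> generalize hE : cx x' * cy y' - cx y' * cy x' = E at hD ⊢ <;> field_simp <;> subst hE <;> ring
    have hρ0 : ev0 ρ = 0 := by simp [ρ, hx, hy, hv]
    have hmem : ρ ∈ Ideal.span {x'} := by
      have hsplit : ρ = ArSing.x k r * ArSing.xMap k r (PowerSeries.mk fun p => PowerSeries.coeff (p + 1) (coP ρ)) +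
          ArSing.y k r * ArSing.xMap k r (coQ ρ) := by
        conv_lhs => rw [co_spec ρ, PowerSeries.eq_X_mul_shift_add_const (coP ρ),
          show PowerSeries.constantCoeff (coP ρ) = 0 from hρ0]
        simp [xMap_X]; ring
      rw [hsplit]
      refine add_mem (mul_mem hr hx hc ev0_x ?_) (mul_mem hr hx hc ev0_y ?_)
      · show PowerSeries.constantCoeff (coP _) = _
        rw [(co_xMap _).1, ← PowerSeries.coeff_zero_eq_constantCoeff_apply, PowerSeries.coeff_mk]
        exact hρ.1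
      · show PowerSeries.constantCoeff (coP _) = _
        rw [(co_xMap _).1]
        exact hρ.2
    obtain ⟨t, ht⟩ := Ideal.mem_span_singleton'.1 hmem
    refine ⟨(ev0 w, c1), algebraMap k A c0 + t, ?_⟩
    simp only [ρ, v, map_neg] at ht
    linear_combination -ht
  choose c w' hw' using step
  let W : ℕ → A := fun N => Nat.rec z (fun _ v => w' v) N
  let P : ℕ → PS := fun N => PowerSeries.mk fun j => (c (W (j + N))).1
  let Q : ℕ → PS := fun N => PowerSeries.mk fun j => (c (W (j + N))).2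
  refine ⟨P 0, Q 0, ?_⟩
  have hN : ∀ N, θ x' hx (P 0) + θ x' hx (Q 0) * y' - z =
      x' ^ N * (θ x' hx (P N) + θ x' hx (Q N) * y' - W N) := by
    intro N
    induction N with
    | zero => simp [W]
    | succ N ih =>
      have hP : θ x' hx (P N) = algebraMap k A (c (W N)).1 + x' * θ x' hx (P (N + 1)) := by
        rw [θ_split x' hx (P N)]
        simp [P, ← PowerSeries.coeff_zero_eq_constantCoeff_apply, add_right_comm, add_assoc, add_comm 1 N]
      have hQ : θ x' hx (Q N) = algebraMap k A (c (W N)).2 + x' * θ x' hx (Q (N + 1)) := by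
        rw [θ_split x' hx (Q N)]
        simp [Q, ← PowerSeries.coeff_zero_eq_constantCoeff_apply, add_right_comm, add_assoc, add_comm 1 N]
      rw [ih, hP, hQ, pow_succ]
      have := hw' (W N)
      change W N = _ + x' * W (N + 1) at this
      linear_combination (-(x' ^ N)) * this
  have hmem : θ x' hx (P 0) + θ x' hx (Q 0) * y' - z ∈ (⨅ N : ℕ, IsLocalRing.maximalIdeal A ^ N) :=
    Ideal.mem_iInf.2 fun N => by
      rw [hN N]
      exact Ideal.mul_mem_right _ _ (Ideal.pow_mem_pow (mem_maximalIdeal.2 hx) N)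
  rw [Ideal.iInf_pow_eq_bot_of_isLocalRing _ (IsLocalRing.maximalIdeal.isMaximal A).ne_top,
    Ideal.mem_bot, sub_eq_zero] at hmem
  exact hmem.symm

end Groth.Agent.Lib.ArSing99
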