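import Groth.Agent.Lib.ArSing99.Invol
import Groth.Agent.H15.MorseLemma
import Mathlib.RingTheory.PowerSeries.WeierstrassPreparation
import Mathlib.RingTheory.MvPowerSeries.Equiv

/-!
# Normal forms of plane curve singularities of multiplicity at most two
-/

set_option autoImplicit false

noncomputable section

universe u

namespace Groth.Agent.Lib.ArSing99

open Groth.Agent.H95.NodeSwap (hom_ext hom_ext₁)
open Groth.Agent.H15

variable {k : Type u} [Field k] [NeZero (2 : k)]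

local notation "MPS" => MvPowerSeries (Fin 2) k
local notation "PS" => PowerSeries k
local notation "x₀" => (MvPowerSeries.X 0 : MvPowerSeries (Fin 2) k)
local notation "y₀" => (MvPowerSeries.X 1 : MvPowerSeries (Fin 2) k)

/-- The maximal ideal of `k[[x, y]]`. -/
abbrev J (k : Type u) [Field k] : Ideal (MvPowerSeries (Fin 2) k) := IsLocalRing.maximalIdeal _

theorem mem_J {g : MPS} : g ∈ J k ↔ MvPowerSeries.constantCoeff g = 0 := by
  rw [IsLocalRing.mem_maximalIdeal, mem_nonunits_iff, MvPowerSeries.isUnit_iff_constantCoeff,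
    isUnit_iff_ne_zero, not_not]

theorem Z_of_mem {N : ℕ} {g : MPS} (hg : g ∈ J k ^ N) : MorseLemma.Z N g := by
  induction N generalizing g with
  | zero => exact MorseLemma.Z.zero' g
  | succ N ih =>
    rw [pow_succ] at hg
    refine Submodule.mul_induction_on hg (fun a ha b hb => ?_) fun a b ha hb => ha.add hb
    exact (ih ha).mul (MorseLemma.Z_one_iff.2 (mem_J.1 hb))

theorem mem_of_Z : ∀ {N : ℕ} {g : MPS}, MorseLemma.Z N g → g ∈ J k ^ N := by
  intro N
  induction N with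
  | zero => simp
  | succ N ih =>
    intro g hg
    rw [← MorseLemma.sum_X_mul_D g (by simpa using hg 0 (by simp)), pow_succ']
    refine sum_mem fun i _ => Ideal.mul_mem_mul (mem_J.2 (by simp)) (ih fun d hd => ?_)
    show (if ∀ j < i, d j = 0 then MvPowerSeries.coeff (d + Finsupp.single i 1) g else 0) = 0
    split_ifs
    · exact hg _ (by rw [map_add, Finsupp.degree_single]; omega)
    · rfl

/-- The ring endomorphism given by the images of the variables. -/
def sub2 (a b : MPS) (ha : MvPowerSeries.constantCoeff a = 0) (hb : MvPowerSeries.constantCoeff b = 0) : MPS →ₐ[k] MPS :=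
  MvPowerSeries.substAlgHom (a := ![a, b]) (MvPowerSeries.hasSubst_of_constantCoeff_zero fun i => by
    fin_cases i <;> assumption)

theorem sub2_X0 (a b : MPS) (ha : MvPowerSeries.constantCoeff a = 0) (hb : MvPowerSeries.constantCoeff b = 0) :
    sub2 a b ha hb x₀ = a := MvPowerSeries.substAlgHom_X (a := ![a, b]) _ 0

theorem sub2_X1 (a b : MPS) (ha : MvPowerSeries.constantCoeff a = 0) (hb : MvPowerSeries.constantCoeff b = 0) :
    sub2 a b ha hb y₀ = b := MvPowerSeries.substAlgHom_X (a := ![a, b]) _ 1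

theorem exists_aut (F G : MPS →ₐ[k] MPS) (h0 : F (G x₀) = x₀) (h1 : F (G y₀) = y₀)
    (h0' : G (F x₀) = x₀) (h1' : G (F y₀) = y₀) : ∃ φ : MPS ≃ₐ[k] MPS, ∀ g, φ g = F g := by
  have key : ∀ H : MPS →ₐ[k] MPS, H x₀ = x₀ → H y₀ = y₀ → H = AlgHom.id k MPS := fun H a b =>
    hom_ext H _ (J k) (IsLocalRing.maximalIdeal.isMaximal _).ne_top
      (fun i => by fin_cases i; exacts [a, b])
      (fun i => by fin_cases i; exacts [(mem_J.2 (by simp [a])), (mem_J.2 (by simp [b]))])
  exact ⟨AlgEquiv.ofAlgHom F G (key _ h0 h1) (key _ h0' h1'), fun g => rfl⟩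

theorem equiv_of_unit_mul (φ : MPS ≃ₐ[k] MPS) {g h u : MPS} (hu : IsUnit u) (e : φ g = u * h) :
    Nonempty ((MPS ⧸ Ideal.span {g}) ≃ₐ[k] (MPS ⧸ Ideal.span {h})) := by
  refine ⟨Ideal.quotientEquivAlg _ _ φ ?_⟩
  rw [Ideal.map_span, Set.image_singleton]
  rw [show (↑φ : MPS →+* MPS) g = u * h from e]
  exact (Ideal.span_singleton_mul_left_unit hu h).symm

theorem subX_map (F : MPS →ₐ[k] MPS) (hF : F x₀ = x₀) (P : PS) : F (subX P) = subX P := by
  have hX : subX (PowerSeries.X : PS) = x₀ := PowerSeries.substAlgHom_X _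
  exact AlgHom.congr_fun (hom_ext₁ (F.comp subX) subX (J k) (IsLocalRing.maximalIdeal.isMaximal _).ne_top
    (by rw [AlgHom.comp_apply, hX, hF]) (by rw [AlgHom.comp_apply, hX, hF]; exact mem_J.2 (by simp))) P

theorem constantCoeff_subX (P : PS) : MvPowerSeries.constantCoeff (subX P) = PowerSeries.constantCoeff P := by
  rw [← MvPowerSeries.coeff_zero_eq_constantCoeff_apply, coeff_subX, if_pos (by simp)]
  simp

/-- `k[[x, y]] ≅ k[[x]][[y]]`. -/
theorem exists_iterate : ∃ E : MPS ≃ₐ[k] PowerSeries PS,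
    E x₀ = PowerSeries.C PowerSeries.X ∧ E y₀ = PowerSeries.X ∧
    ∀ g j, PowerSeries.constantCoeff (PowerSeries.coeff j (E g)) = MvPowerSeries.coeff (Finsupp.single 1 j) g := by
  classical
  obtain ⟨sw, hsw⟩ : ∃ sw : MPS ≃ₐ[k] MPS, sw = MvPowerSeries.renameEquiv (R := k) (Equiv.swap 0 1) := ⟨_, rfl⟩
  let e1 : MvPowerSeries (Fin 1) k ≃ₐ[k] PS := MvPowerSeries.renameEquiv (R := k) (Equiv.ofUnique (Fin 1) Unit)
  let M : PowerSeries (MvPowerSeries (Fin 1) k) ≃ₐ[k] PowerSeries PS :=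
    AlgEquiv.ofAlgHom (PowerSeries.mapAlgHom e1.toAlgHom) (PowerSeries.mapAlgHom e1.symm.toAlgHom)
      (AlgHom.ext fun f => PowerSeries.ext fun n => by
        show PowerSeries.coeff n (PowerSeries.map e1.toAlgHom.toRingHom (PowerSeries.map e1.symm.toAlgHom.toRingHom f)) = PowerSeries.coeff n f
        rw [PowerSeries.coeff_map, PowerSeries.coeff_map]; exact e1.apply_symm_apply _)
      (AlgHom.ext fun f => PowerSeries.ext fun n => by
        show PowerSeries.coeff n (PowerSeries.map e1.symm.toAlgHom.toRingHom (PowerSeries.map e1.toAlgHom.toRingHom f)) = PowerSeries.coeff n f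
        rw [PowerSeries.coeff_map, PowerSeries.coeff_map]; exact e1.symm_apply_apply _)
  refine ⟨(sw.trans (MvPowerSeries.finSuccEquiv k 1)).trans M, ?_, ?_, fun g j => ?_⟩
  · show M (MvPowerSeries.finSuccEquiv k 1 (sw x₀)) = _
    rw [hsw]
    show M (MvPowerSeries.finSuccEquiv k 1 (MvPowerSeries.rename (Equiv.swap (0 : Fin 2) 1) x₀)) = _
    rw [MvPowerSeries.rename_X, Equiv.swap_apply_left, show (1 : Fin 2) = (0 : Fin 1).succ from rfl,
      MvPowerSeries.finSuccEquiv_X_succ]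
    show PowerSeries.map e1.toAlgHom.toRingHom _ = _
    rw [PowerSeries.map_C]
    congr 1
    show MvPowerSeries.rename (Equiv.ofUnique (Fin 1) Unit) (MvPowerSeries.X (0 : Fin 1)) = _
    rw [MvPowerSeries.rename_X]; rfl
  · show M (MvPowerSeries.finSuccEquiv k 1 (sw y₀)) = _
    rw [hsw]
    show M (MvPowerSeries.finSuccEquiv k 1 (MvPowerSeries.rename (Equiv.swap (0 : Fin 2) 1) y₀)) = _
    rw [MvPowerSeries.rename_X, Equiv.swap_apply_right, MvPowerSeries.finSuccEquiv_X_zero]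
    show PowerSeries.map e1.toAlgHom.toRingHom _ = _
    rw [PowerSeries.map_X]
  · show PowerSeries.constantCoeff (PowerSeries.coeff j (PowerSeries.map e1.toAlgHom.toRingHom
      (MvPowerSeries.finSuccEquiv k 1 (sw g)))) = _
    rw [PowerSeries.coeff_map]
    have hc : ∀ q : MvPowerSeries (Fin 1) k, PowerSeries.constantCoeff (e1 q) = MvPowerSeries.constantCoeff q := by
      intro q
      show MvPowerSeries.coeff 0 (MvPowerSeries.rename (Equiv.ofUnique (Fin 1) Unit) q) = _
      rw [← Finsupp.mapDomain_zero (f := (Equiv.ofUnique (Fin 1) Unit)), ← Equiv.coe_toEmbedding,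
        ← Finsupp.embDomain_eq_mapDomain, MvPowerSeries.coeff_embDomain_rename]
      simp
    show PowerSeries.constantCoeff (e1 _) = _
    rw [hc, ← MvPowerSeries.coeff_zero_eq_constantCoeff_apply, MvPowerSeries.coeff_coeff_finSuccEquiv, hsw]
    show MvPowerSeries.coeff _ (MvPowerSeries.rename (Equiv.swap (0 : Fin 2) 1) g) = _
    rw [show Finsupp.cons j (0 : Fin 1 →₀ ℕ) = Finsupp.embDomain (Equiv.swap (0 : Fin 2) 1).toEmbedding (Finsupp.single 1 j) by
      rw [Finsupp.embDomain_single]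
      simp only [Equiv.coe_toEmbedding, Equiv.swap_apply_right]
      ext i; fin_cases i <;> simp [Finsupp.cons]]
    exact MvPowerSeries.coeff_embDomain_rename (Equiv.swap (0 : Fin 2) 1).toEmbedding g _

/-- An automorphism making a series of order at most two regular in `y` of order at most two. -/
theorem exists_regular {g : MPS} (h0 : MvPowerSeries.constantCoeff g = 0) (hg : g ∉ J k ^ 3) :
    ∃ φ : MPS ≃ₐ[k] MPS, MvPowerSeries.constantCoeff (φ g) = 0 ∧
      (MvPowerSeries.coeff (Finsupp.single 1 1) (φ g) ≠ 0 ∨ MvPowerSeries.coeff (Finsupp.single 1 2) (φ g) ≠ 0) := by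
  classical
  let c : ℕ → ℕ → k := fun i j => MvPowerSeries.coeff (Finsupp.single 0 i + Finsupp.single 1 j) g
  let T : MPS := MvPowerSeries.C (c 1 0) * x₀ + MvPowerSeries.C (c 0 1) * y₀ + MvPowerSeries.C (c 2 0) * x₀ ^ 2 +
    MvPowerSeries.C (c 1 1) * (x₀ * y₀) + MvPowerSeries.C (c 0 2) * y₀ ^ 2
  have hxy : x₀ * y₀ = MvPowerSeries.monomial (Finsupp.single 0 1 + Finsupp.single 1 1) 1 := by
    rw [MvPowerSeries.X_def, MvPowerSeries.X_def, MvPowerSeries.monomial_mul_monomial, one_mul]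
  have hT : g - T ∈ J k ^ 3 := mem_of_Z fun d hd => by
    have hd' : d = Finsupp.single 0 (d 0) + Finsupp.single 1 (d 1) := by ext i; fin_cases i <;> simp
    have hdeg : d 0 + d 1 < 3 := by
      have : d.degree = d 0 + d 1 := by rw [Finsupp.degree_eq_sum, Fin.sum_univ_two]
      omega
    obtain ⟨a, ha⟩ : ∃ a, d 0 = a := ⟨_, rfl⟩
    obtain ⟨b, hb⟩ : ∃ b, d 1 = b := ⟨_, rfl⟩
    rw [hd', ha, hb]
    rw [ha, hb] at hdeg
    simp only [map_sub, T, hxy, map_add, MvPowerSeries.coeff_C_mul, MvPowerSeries.coeff_X_pow,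
      MvPowerSeries.coeff_X, MvPowerSeries.coeff_monomial]
    have hz : MvPowerSeries.coeff (Finsupp.single 0 0 + Finsupp.single 1 0 : Fin 2 →₀ ℕ) g = 0 := by simpa using h0
    have ha3 : a < 3 := by omega
    have hb3 : b < 3 := by omega
    interval_cases a <;> interval_cases b <;>
      first
      | omega
      | (simp [c, Finsupp.ext_iff, Fin.forall_fin_two]; done)
      | (simp [c, Finsupp.ext_iff, Fin.forall_fin_two]; exact h0)
  have key : ∀ (φ : MPS ≃ₐ[k] MPS), MvPowerSeries.constantCoeff (φ g) = 0 ∧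
      ∀ j < 3, MvPowerSeries.coeff (Finsupp.single 1 j) (φ g) = MvPowerSeries.coeff (Finsupp.single 1 j) (φ T) := by
    intro φ
    have hJ : ∀ a ∈ J k, φ a ∈ J k := fun a ha => by
      rw [IsLocalRing.mem_maximalIdeal, mem_nonunits_iff] at ha ⊢
      exact fun hu => ha (by simpa using hu.map φ.symm)
    refine ⟨mem_J.1 (hJ _ (mem_J.2 h0)), fun j hj => ?_⟩
    have : φ (g - T) ∈ J k ^ 3 := by
      have := Ideal.mem_map_of_mem φ hT
      rw [Ideal.map_pow] at this
      exact Ideal.pow_right_mono (show (J k).map φ ≤ J k from Ideal.map_le_iff_le_comap.2 fun a ha => hJ a ha) 3 this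
    have h := Z_of_mem this (Finsupp.single 1 j) (by rw [Finsupp.degree_single]; exact hj)
    rwa [map_sub, map_sub, sub_eq_zero] at h
  obtain ⟨swp, hs0, hs1⟩ : ∃ φ : MPS ≃ₐ[k] MPS, φ x₀ = y₀ ∧ φ y₀ = x₀ := by
    let F := sub2 (k := k) y₀ x₀ (by simp) (by simp)
    obtain ⟨φ, hφ⟩ := exists_aut F F (by simp [F, sub2_X0, sub2_X1]) (by simp [F, sub2_X0, sub2_X1])
      (by simp [F, sub2_X0, sub2_X1]) (by simp [F, sub2_X0, sub2_X1])
    exact ⟨φ, by rw [hφ, sub2_X0], by rw [hφ, sub2_X1]⟩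
  obtain ⟨shr, hh0, hh1⟩ : ∃ φ : MPS ≃ₐ[k] MPS, φ x₀ = x₀ + y₀ ∧ φ y₀ = y₀ := by
    let F := sub2 (k := k) (x₀ + y₀) y₀ (by simp) (by simp)
    let G := sub2 (k := k) (x₀ - y₀) y₀ (by simp) (by simp)
    obtain ⟨φ, hφ⟩ := exists_aut F G (by simp [F, G, sub2_X0, sub2_X1]) (by simp [F, G, sub2_X0, sub2_X1])
      (by simp [F, G, sub2_X0, sub2_X1]) (by simp [F, G, sub2_X0, sub2_X1])
    exact ⟨φ, by rw [hφ, sub2_X0], by rw [hφ, sub2_X1]⟩
  have hC : ∀ (φ : MPS ≃ₐ[k] MPS) (a : k), φ (MvPowerSeries.C a) = MvPowerSeries.C a := fun φ a => φ.commutes a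
  have hg1 : ∀ i j, i + j < 3 → MvPowerSeries.coeff (Finsupp.single 0 i + Finsupp.single 1 j) g = c i j := fun _ _ _ => rfl
  by_cases h01 : c 0 1 ≠ 0
  · exact ⟨AlgEquiv.refl, h0, Or.inl (by simpa [c] using h01)⟩
  by_cases h02 : c 0 2 ≠ 0
  · exact ⟨AlgEquiv.refl, h0, Or.inr (by simpa [c] using h02)⟩
  push Not at h01 h02
  by_cases h10 : c 1 0 ≠ 0
  · refine ⟨swp, (key swp).1, Or.inl ?_⟩
    rw [(key swp).2 1 (by omega)]
    simp only [T, map_add, map_mul, map_pow, hC, hs0, hs1, mul_comm y₀ x₀]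
    simp [h01, h02, MvPowerSeries.coeff_C_mul, MvPowerSeries.coeff_X, MvPowerSeries.coeff_X_pow,
      Finsupp.ext_iff, Fin.forall_fin_two, hxy, mul_comm y₀ x₀, MvPowerSeries.coeff_monomial, h10]
  by_cases h20 : c 2 0 ≠ 0
  · refine ⟨swp, (key swp).1, Or.inr ?_⟩
    rw [(key swp).2 2 (by omega)]
    push Not at h10
    simp only [T, map_add, map_mul, map_pow, hC, hs0, hs1, mul_comm y₀ x₀]
    simp [h01, h02, h10, MvPowerSeries.coeff_C_mul, MvPowerSeries.coeff_X, MvPowerSeries.coeff_X_pow,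
      Finsupp.ext_iff, Fin.forall_fin_two, hxy, mul_comm y₀ x₀, MvPowerSeries.coeff_monomial, h20]
  push Not at h10 h20
  by_cases h11 : c 1 1 = 0
  · exact absurd (by simpa [T, h01, h02, h10, h20, h11] using hT) hg
  refine ⟨shr, (key shr).1, Or.inr ?_⟩
  rw [(key shr).2 2 (by omega)]
  have : (x₀ + y₀) * y₀ = MvPowerSeries.monomial (Finsupp.single 0 1 + Finsupp.single 1 1) 1 + y₀ ^ 2 := by
    rw [← hxy]; ring
  simp [T, hC, hh0, hh1, h01, h02, h10, h20, MvPowerSeries.coeff_C_mul, MvPowerSeries.coeff_X_pow, this,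
    Finsupp.ext_iff, Fin.forall_fin_two, MvPowerSeries.coeff_monomial, h11]

theorem exists_shift (c : PS) (hc : PowerSeries.constantCoeff c = 0) :
    ∃ φ : MPS ≃ₐ[k] MPS, φ x₀ = x₀ ∧ φ y₀ = y₀ + subX c := by
  let F := sub2 (k := k) x₀ (y₀ + subX c) (by simp) (by simp [constantCoeff_subX, hc])
  let G := sub2 (k := k) x₀ (y₀ - subX c) (by simp) (by simp [constantCoeff_subX, hc])
  have hF := subX_map F (sub2_X0 _ _ _ _) c
  have hG := subX_map G (sub2_X0 _ _ _ _) c
  obtain ⟨φ, hφ⟩ := exists_aut F G (by simp [F, G, sub2_X0]) (by rw [sub2_X1, map_sub, hF, sub2_X1]; ring)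
    (by simp [F, G, sub2_X0]) (by rw [sub2_X1, map_add, hG, sub2_X1]; ring)
  exact ⟨φ, by rw [hφ, sub2_X0], by rw [hφ, sub2_X1]⟩

theorem exists_scale (v : PS) (hv : PowerSeries.constantCoeff v ≠ 0) :
    ∃ φ : MPS ≃ₐ[k] MPS, φ x₀ = x₀ ∧ φ y₀ = y₀ * subX v := by
  let F := sub2 (k := k) x₀ (y₀ * subX v) (by simp) (by simp)
  let G := sub2 (k := k) x₀ (y₀ * subX v⁻¹) (by simp) (by simp)
  have hF := subX_map F (sub2_X0 _ _ _ _) v⁻¹
  have hG := subX_map G (sub2_X0 _ _ _ _) v
  have hvv : subX v * subX v⁻¹ = (1 : MPS) := by rw [← map_mul, PowerSeries.mul_inv_cancel v hv, map_one]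
  obtain ⟨φ, hφ⟩ := exists_aut F G (by simp [F, G, sub2_X0]) (by rw [sub2_X1, map_mul, hF, sub2_X1, mul_assoc, hvv, mul_one])
    (by simp [F, G, sub2_X0]) (by rw [sub2_X1, map_mul, hG, sub2_X1, mul_assoc, mul_comm (subX v⁻¹), hvv, mul_one])
  exact ⟨φ, by rw [hφ, sub2_X0], by rw [hφ, sub2_X1]⟩

/-- Multiplicity at most two gives an `A`-singularity or a double line. -/
theorem normal_form [IsAlgClosed k] {g : MPS} (h0 : MvPowerSeries.constantCoeff g = 0) (hg : g ∉ J k ^ 3) :
    (∃ n : ℕ, Nonempty ((MPS ⧸ Ideal.span {g}) ≃ₐ[k] ArSing.ring k n)) ∨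
      Nonempty ((MPS ⧸ Ideal.span {g}) ≃ₐ[k] (MPS ⧸ Ideal.span {y₀ ^ 2})) := by
  classical
  haveI : IsAdicComplete (IsLocalRing.maximalIdeal PS) PS := by
    rw [PowerSeries.maximalIdeal_eq_span_X]; infer_instance
  obtain ⟨φ₁, hφ0, hφreg⟩ := exists_regular h0 hg
  obtain ⟨E, hEx, hEy, hEc⟩ := exists_iterate (k := k)
  have hres : ∀ j, PowerSeries.coeff j ((E (φ₁ g)).map (IsLocalRing.residue PS)) = 0 ↔
      MvPowerSeries.coeff (Finsupp.single 1 j) (φ₁ g) = 0 := fun j => by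
    rw [PowerSeries.coeff_map, IsLocalRing.residue_eq_zero_iff, PowerSeries.maximalIdeal_eq_span_X,
      Ideal.mem_span_singleton, PowerSeries.X_dvd_iff, hEc]
  have hne : (E (φ₁ g)).map (IsLocalRing.residue PS) ≠ 0 := fun h => by
    rcases hφreg with hh | hh <;> exact hh ((hres _).1 (by rw [h, map_zero]))
  obtain ⟨f, u, H⟩ := PowerSeries.exists_isWeierstrassFactorization hne
  have hm2 : f.natDegree ≤ 2 := by
    rw [H.natDegree_eq_toNat_order_map]
    refine ENat.toNat_le_of_le_coe ?_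
    rcases hφreg with hh | hh
    · exact le_trans (PowerSeries.order_le 1 fun h => hh ((hres _).1 h)) (by norm_num)
    · exact PowerSeries.order_le 2 fun h => hh ((hres _).1 h)
  have hm0 : f.natDegree ≠ 0 := by
    rw [H.natDegree_eq_toNat_order_map]
    intro h
    have := PowerSeries.coeff_order hne
    rw [h] at this
    exact this ((hres 0).2 (by simpa using hφ0))
  have hmon := H.isDistinguishedAt.monic
  have hlow : ∀ i < f.natDegree, PowerSeries.constantCoeff (f.coeff i) = 0 := fun i hi => by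
    have := H.isDistinguishedAt.mem hi
    rwa [PowerSeries.maximalIdeal_eq_span_X, Ideal.mem_span_singleton, PowerSeries.X_dvd_iff] at this
  have hEC : ∀ P : PS, E (subX P) = PowerSeries.C P := by
    intro P
    apply E.symm.injective
    rw [AlgEquiv.symm_apply_apply]
    have hX : subX (PowerSeries.X : PS) = x₀ := PowerSeries.substAlgHom_X _
    exact AlgHom.congr_fun (hom_ext₁ subX (E.symm.toAlgHom.comp { (PowerSeries.C : PS →+* PowerSeries PS) with commutes' := fun r => by rw [PowerSeries.algebraMap_apply (A := PS)]; rfl })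
      (J k) (IsLocalRing.maximalIdeal.isMaximal _).ne_top
      (by rw [hX, AlgHom.comp_apply]; show _ = E.symm (PowerSeries.C PowerSeries.X); rw [← hEx, AlgEquiv.symm_apply_apply])
      (by rw [hX]; exact mem_J.2 (by simp))) P
  have hsum : E.symm (f : PowerSeries PS) =
      y₀ ^ f.natDegree + ∑ i ∈ Finset.range f.natDegree, subX (f.coeff i) * y₀ ^ i := by
    apply E.injective
    rw [AlgEquiv.apply_symm_apply]
    conv_lhs => rw [hmon.as_sum]
    rw [← Polynomial.coeToPowerSeries.ringHom_apply, map_add, map_sum]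
    simp [map_sum, hEy, hEC]
  have e1 : φ₁ g = E.symm u * E.symm (f : PowerSeries PS) := by
    rw [← map_mul, mul_comm u, ← H.eq_mul, AlgEquiv.symm_apply_apply]
  have hu : IsUnit (E.symm u) := H.isUnit.map E.symm
  rcases (show f.natDegree = 1 ∨ f.natDegree = 2 by omega) with hd | hd
  · left
    refine ⟨0, ?_⟩
    obtain ⟨φ₂, h2x, h2y⟩ := exists_shift (k := k) (-f.coeff 0) (by rw [map_neg, hlow 0 (by omega), neg_zero])
    let W := sub2 (k := k) (y₀ ^ 2 - x₀) y₀ (by simp) (by simp)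
    obtain ⟨φ₄, h4⟩ := exists_aut W W (by simp [W, sub2_X0, sub2_X1]) (by simp [W, sub2_X1])
      (by simp [W, sub2_X0, sub2_X1]) (by simp [W, sub2_X1])
    let S := sub2 (k := k) y₀ x₀ (by simp) (by simp)
    obtain ⟨φ₃, h3⟩ := exists_aut S S (by simp [S, sub2_X0, sub2_X1]) (by simp [S, sub2_X0, sub2_X1])
      (by simp [S, sub2_X0, sub2_X1]) (by simp [S, sub2_X0, sub2_X1])
    refine equiv_of_unit_mul (((φ₁.trans φ₂).trans φ₃).trans φ₄) ((((hu.map φ₂).map φ₃).map φ₄)) ?_
    show φ₄ (φ₃ (φ₂ (φ₁ g))) = _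
    rw [e1, map_mul, map_mul, map_mul, hsum, hd]
    congr 1
    rw [pow_one, Finset.sum_range_one, pow_zero, mul_one]
    have hsX : ∀ P, φ₂ (subX P) = subX P := fun P => subX_map φ₂.toAlgHom h2x P
    have : φ₂ (y₀ + subX (f.coeff 0)) = y₀ := by
      rw [map_add, h2y, hsX, map_neg]; ring
    rw [this, h3, sub2_X1, h4, sub2_X0, ArSing.eqn]
    simp
  · obtain ⟨φ₂, h2x, h2y⟩ := exists_shift (k := k) (-(PowerSeries.C 2⁻¹ * f.coeff 1)) (by
      rw [map_neg, map_mul, hlow 1 (by omega), mul_zero, neg_zero])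
    let d : PS := PowerSeries.C (2⁻¹ * 2⁻¹) * f.coeff 1 ^ 2 - f.coeff 0
    have h22 : (PowerSeries.C 2⁻¹ : PS) + PowerSeries.C 2⁻¹ = 1 := by
      rw [← map_add, ← two_mul, mul_inv_cancel₀ two_ne, map_one]
    have hsX : ∀ P, φ₂ (subX P) = subX P := fun P => subX_map φ₂.toAlgHom h2x P
    have e2 : φ₂ (φ₁ g) = φ₂ (E.symm u) * (y₀ ^ 2 - subX d) := by
      rw [e1, map_mul, hsum, hd]
      congr 1
      rw [Finset.sum_range_succ, Finset.sum_range_one, pow_zero, mul_one, pow_one, map_add, map_add, map_pow,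
        map_mul, h2y, hsX, hsX]
      simp only [d, map_sub, map_mul, map_pow, map_neg]
      have h22' := congrArg (subX (k := k)) h22
      rw [map_add, map_one] at h22'
      linear_combination (-(y₀ * subX (f.coeff 1)) + subX (PowerSeries.C 2⁻¹) * subX (f.coeff 1) ^ 2) * h22'
    by_cases hd0 : d = 0
    · right
      refine equiv_of_unit_mul (φ₁.trans φ₂) (hu.map φ₂) ?_
      show φ₂ (φ₁ g) = _
      rw [e2, hd0, map_zero, sub_zero]
    left
    set j := d.order.toNat
    set U := d.divXPowOrder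
    have hdU : PowerSeries.X ^ j * U = d := PowerSeries.X_pow_order_mul_divXPowOrder
    have hU : PowerSeries.constantCoeff U ≠ 0 := by
      rw [Ne, PowerSeries.constantCoeff_divXPowOrder_eq_zero_iff]; exact hd0
    have hj : j ≠ 0 := fun h => by
      rw [h, pow_zero, one_mul] at hdU
      rw [hdU] at hU
      exact hU (by simp [d, hlow 0 (by omega), hlow 1 (by omega)])
    obtain ⟨n, hn⟩ : ∃ n, j = n + 1 := ⟨j - 1, by omega⟩
    obtain ⟨v, hv, hv2⟩ := exists_root hU (n := 2) two_ne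
    obtain ⟨φ₃, h3x, h3y⟩ := exists_scale v hv
    refine ⟨n, equiv_of_unit_mul ((φ₁.trans φ₂).trans φ₃) (u := φ₃ (φ₂ (E.symm u)) * subX v ^ 2) ?_ ?_⟩
    · exact ((hu.map φ₂).map φ₃).mul (((PowerSeries.isUnit_iff_constantCoeff.2 (isUnit_iff_ne_zero.2 hv)).map subX).pow 2)
    · show φ₃ (φ₂ (φ₁ g)) = _
      have hsX3 : φ₃ (subX d) = subX d := subX_map φ₃.toAlgHom h3x d
      rw [e2, map_mul, map_sub, map_pow, h3y, hsX3, ← hdU, ← hv2,
        map_mul, map_pow, map_pow, show subX (PowerSeries.X : PS) = x₀ from PowerSeries.substAlgHom_X _, ArSing.eqn, hn]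
      ring

theorem mem_cube_of_equiv {g h : MPS} (hg : g ∈ J k ^ 3)
    (e : (MPS ⧸ Ideal.span {g}) ≃ₐ[k] (MPS ⧸ Ideal.span {h})) : h ∈ J k ^ 3 := by
  let Q := MPS ⧸ J k ^ 3
  let π : MPS →+* Q := Ideal.Quotient.mk _
  let p : (MPS ⧸ Ideal.span {g}) →+* Q :=
    Ideal.Quotient.factor ((Ideal.span_singleton_le_iff_mem _).2 hg)
  let τ : MPS →+* Q := (p.comp e.symm.toRingEquiv.toRingHom).comp (Ideal.Quotient.mk _)
  have hτs : Function.Surjective τ :=
    ((Ideal.Quotient.factor_surjective ((Ideal.span_singleton_le_iff_mem _).2 hg)).comp e.symm.surjective).comp Ideal.Quotient.mk_surjective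
  have hτJ : ∀ a ∈ J k, τ a ∈ (J k).map π := by
    intro a ha
    obtain ⟨b, hb⟩ := Ideal.Quotient.mk_surjective (e.symm (Ideal.Quotient.mk _ a))
    show p (e.symm (Ideal.Quotient.mk _ a)) ∈ _
    rw [← hb]
    refine Ideal.mem_map_of_mem π (?_ : b ∈ J k)
    by_contra hb'
    rw [IsLocalRing.mem_maximalIdeal, mem_nonunits_iff, not_not] at hb'
    have h1 : IsUnit (Ideal.Quotient.mk (Ideal.span {h}) a) := by
      have := (hb'.map (Ideal.Quotient.mk (Ideal.span {g}))).map e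
      rwa [hb, AlgEquiv.apply_symm_apply] at this
    have hh : h ∈ J k := by
      by_contra hh
      rw [IsLocalRing.mem_maximalIdeal, mem_nonunits_iff, not_not] at hh
      have : Subsingleton (MPS ⧸ Ideal.span {h}) :=
        Ideal.Quotient.subsingleton_iff.2 (Ideal.span_singleton_eq_top.2 hh)
      have : Subsingleton (MPS ⧸ Ideal.span {g}) := e.injective.subsingleton
      rw [Ideal.Quotient.subsingleton_iff, Ideal.span_singleton_eq_top] at this
      exact (IsLocalRing.maximalIdeal.isMaximal MPS).ne_top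
        (Ideal.eq_top_of_isUnit_mem _ (Ideal.pow_le_self (by omega) hg) this)
    obtain ⟨w, hw⟩ := h1.exists_right_inv
    obtain ⟨w', rfl⟩ := Ideal.Quotient.mk_surjective w
    rw [← map_mul, ← map_one (Ideal.Quotient.mk (Ideal.span {h})), Ideal.Quotient.eq, Ideal.mem_span_singleton] at hw
    have : a * w' - 1 ∈ J k := Ideal.mem_of_dvd _ hw hh
    exact (IsLocalRing.maximalIdeal.isMaximal MPS).ne_top ((Ideal.eq_top_iff_one _).2
      (by simpa using sub_mem (Ideal.mul_mem_right w' _ ha) this))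
  have hker : J k ^ 3 ≤ RingHom.ker τ := by
    intro a ha
    rw [RingHom.mem_ker]
    have h1 : τ a ∈ ((J k).map π) ^ 3 :=
      Ideal.pow_right_mono (show (J k).map τ ≤ (J k).map π from Ideal.map_le_iff_le_comap.2 hτJ) 3 (by rw [← Ideal.map_pow]; exact Ideal.mem_map_of_mem τ ha)
    rwa [← Ideal.map_pow, Ideal.map_quotient_self, Ideal.mem_bot] at h1
  let τ' : Q →+* Q := Ideal.Quotient.lift _ τ hker
  have hinj := injective_of_surjective_endo τ' fun y => by
    obtain ⟨a, rfl⟩ := hτs y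
    exact ⟨π a, rfl⟩
  refine Ideal.Quotient.eq_zero_iff_mem.1 (hinj (a₁ := π h) (a₂ := 0) ?_)
  rw [map_zero]
  show p (e.symm (Ideal.Quotient.mk _ h)) = 0
  rw [Ideal.Quotient.eq_zero_iff_mem.2 (Ideal.mem_span_singleton_self h), map_zero, map_zero]

theorem X_sq_not_mem (n : ℕ) : ArSing.eqn k n ∉ J k ^ 3 ∧ (y₀ ^ 2 : MPS) ∉ J k ^ 3 := by
  classical
  constructor <;> intro h <;> have := Z_of_mem h (Finsupp.single 1 2) (by rw [Finsupp.degree_single]; omega)
  · simp [ArSing.eqn, MvPowerSeries.coeff_X_pow, Finsupp.ext_iff, Fin.forall_fin_two] at this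
  · simp [MvPowerSeries.coeff_X_pow] at this

end Groth.Agent.Lib.ArSing99
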