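import Groth.Agent.H61.PSFilt
import Mathlib.RingTheory.AdicCompletion.Algebra
import Mathlib.RingTheory.Filtration

/-!
# A local algebra with the levels of `k[[x]]/(g)` has it as completion
-/

set_option autoImplicit false

noncomputable section

universe u

namespace Groth.Agent.Lib.ArSing99.QuadCompletion

open IsLocalRing
open Groth.Agent.H61.PSFilt

variable {k : Type u} [Field k] {N : ℕ}

local notation "S" => MvPowerSeries (Fin N) k

theorem XI_eq_maximalIdeal : XI (Fin N) k = maximalIdeal S := by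
  ext g
  rw [mem_iff_constantCoeff, IsLocalRing.mem_maximalIdeal, mem_nonunits_iff,
    MvPowerSeries.isUnit_iff_constantCoeff, isUnit_iff_ne_zero, not_not]

theorem exists_limit (u : ℕ → S) (h : ∀ n, u (n + 1) - u n ∈ XI (Fin N) k ^ n) :
    ∃ L : S, ∀ n, L - u n ∈ XI (Fin N) k ^ n := by
  let L : S := fun d => MvPowerSeries.coeff d (u (d.degree + 1))
  refine ⟨L, fun n => mem_iff.2 fun e he => ?_⟩
  rw [map_sub, sub_eq_zero]
  show MvPowerSeries.coeff e (u (e.degree + 1)) = _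
  induction n, he using Nat.le_induction with
  | base => rfl
  | succ m hm ih =>
    rw [ih]
    have := low_of_mem (h m) e hm
    rw [map_sub, sub_eq_zero] at this
    exact this.symm

variable (g : MvPowerSeries (Fin N) k) {O : Type u} [CommRing O] [IsLocalRing O] [Algebra k O]

/-- The image of the ideal of the variables. -/
abbrev M : Ideal (MvPowerSeries (Fin N) k ⧸ Ideal.span {g}) := (XI (Fin N) k).map (Ideal.Quotient.mk _)

theorem nonempty_equiv (hg : g ∈ XI (Fin N) k) (θ : O →ₐ[k] S ⧸ Ideal.span {g})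
    (hsur : ∀ (n : ℕ) (c : S ⧸ Ideal.span {g}), ∃ z, θ z - c ∈ M g ^ n)
    (hmem : ∀ (n : ℕ) (z : O), θ z ∈ M g ^ n ↔ z ∈ maximalIdeal O ^ n) :
    Nonempty (AdicCompletion (maximalIdeal O) O ≃ₐ[k] (S ⧸ Ideal.span {g})) := by
  classical
  let lev : ∀ n : ℕ, (O ⧸ maximalIdeal O ^ n) →ₐ[k] ((S ⧸ Ideal.span {g}) ⧸ M g ^ n) := fun n =>
    Ideal.Quotient.liftₐ _ ((Ideal.Quotient.mkₐ k (M g ^ n)).comp θ) fun z hz => by
      rw [AlgHom.comp_apply, Ideal.Quotient.mkₐ_eq_mk, Ideal.Quotient.eq_zero_iff_mem]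
      exact (hmem n z).2 hz
  have hlev : ∀ n z, lev n (Ideal.Quotient.mk _ z) = Ideal.Quotient.mk _ (θ z) := fun n z => rfl
  have hbij : ∀ n, Function.Bijective (lev n) := by
    intro n
    refine ⟨(injective_iff_map_eq_zero _).2 fun z hz => ?_, fun c => ?_⟩
    · obtain ⟨z, rfl⟩ := Ideal.Quotient.mk_surjective z
      rw [hlev, Ideal.Quotient.eq_zero_iff_mem] at hz
      exact Ideal.Quotient.eq_zero_iff_mem.2 ((hmem n z).1 hz)
    · obtain ⟨c, rfl⟩ := Ideal.Quotient.mk_surjective c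
      obtain ⟨z, hz⟩ := hsur n c
      exact ⟨Ideal.Quotient.mk _ z, by rw [hlev]; exact Ideal.Quotient.eq.2 hz⟩
  let ev : ∀ n : ℕ, (S ⧸ Ideal.span {g}) →ₐ[k] (O ⧸ maximalIdeal O ^ n) := fun n =>
    (AlgEquiv.ofBijective (lev n) (hbij n)).symm.toAlgHom.comp (Ideal.Quotient.mkₐ k (M g ^ n))
  have hev : ∀ n c, lev n (ev n c) = Ideal.Quotient.mk _ c := fun n c =>
    (AlgEquiv.ofBijective (lev n) (hbij n)).apply_symm_apply _
  have hcompat : ∀ {m n : ℕ} (hle : m ≤ n),
      (Ideal.Quotient.factorₐ k (Ideal.pow_le_pow_right (I := maximalIdeal O) hle)).comp (ev n) = ev m := by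
    intro m n hle
    refine AlgHom.ext fun c => (hbij m).1 ?_
    rw [hev]
    obtain ⟨z, hz⟩ := Ideal.Quotient.mk_surjective (ev n c)
    have h := hev n c
    rw [← hz, hlev, Ideal.Quotient.eq] at h
    rw [AlgHom.comp_apply, ← hz]
    show lev m (Ideal.Quotient.mk _ z) = _
    rw [hlev, Ideal.Quotient.eq]
    exact Ideal.pow_le_pow_right hle h
  let Φ : (S ⧸ Ideal.span {g}) →ₐ[k] AdicCompletion (maximalIdeal O) O :=
    AdicCompletion.liftAlgHom (maximalIdeal O) ev hcompat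
  have hΦ : ∀ n c, AdicCompletion.evalₐ (maximalIdeal O) n (Φ c) = ev n c := fun n c =>
    AdicCompletion.evalₐ_liftAlgHom (maximalIdeal O) ev hcompat n c
  haveI : Nontrivial (S ⧸ Ideal.span {g}) := Ideal.Quotient.nontrivial_iff.2 fun h => by
    have := mem_iff_constantCoeff.1 ((Ideal.span_singleton_le_iff_mem (XI (Fin N) k)).2 hg
      (h ▸ (Submodule.mem_top : (1 : S) ∈ ⊤)))
    simp at this
  haveI : IsLocalRing (S ⧸ Ideal.span {g}) :=
    IsLocalRing.of_surjective' (Ideal.Quotient.mk _) Ideal.Quotient.mk_surjective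
  have hMne : M g ≠ ⊤ := by
    rw [M, XI_eq_maximalIdeal, IsLocalRing.map_maximalIdeal_of_surjective _ Ideal.Quotient.mk_surjective]
    exact (IsLocalRing.maximalIdeal.isMaximal _).ne_top
  refine ⟨(AlgEquiv.ofBijective Φ ⟨(injective_iff_map_eq_zero _).2 fun c hc => ?_, fun x => ?_⟩).symm⟩
  · have h : c ∈ ⨅ n : ℕ, M g ^ n := Ideal.mem_iInf.2 fun n => by
      have h1 := hev n c
      rw [← hΦ, hc, map_zero, map_zero] at h1
      exact Ideal.Quotient.eq_zero_iff_mem.1 h1.symm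
    rwa [Ideal.iInf_pow_eq_bot_of_isLocalRing _ hMne, Ideal.mem_bot] at h
  · obtain ⟨z, rfl⟩ := AdicCompletion.mk_surjective (maximalIdeal O) O x
    have hz : ∀ n, z (n + 1) - z n ∈ maximalIdeal O ^ n := fun n => by
      have h := (z.2 (Nat.le_succ n)).symm
      rw [SModEq.sub_mem, smul_eq_mul, Ideal.mul_top] at h
      exact h
    have step : ∀ n (v : S), Ideal.Quotient.mk _ v - θ (z n) ∈ M g ^ n →
        ∃ v' : S, Ideal.Quotient.mk _ v' - θ (z (n + 1)) ∈ M g ^ (n + 1) ∧ v' - v ∈ XI (Fin N) k ^ n := by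
      intro n v hv
      obtain ⟨t, ht⟩ := Ideal.Quotient.mk_surjective (θ (z (n + 1)))
      have h : Ideal.Quotient.mk (Ideal.span {g}) (t - v) ∈ M g ^ n := by
        have h' := sub_mem ((hmem n _).2 (hz n)) hv
        rw [map_sub] at h'
        rw [map_sub, ht]
        convert h' using 1
        ring
      rw [M, ← Ideal.map_pow, Ideal.mem_map_iff_of_surjective _ Ideal.Quotient.mk_surjective] at h
      obtain ⟨j, hj, hj'⟩ := h
      refine ⟨v + j, ?_, by rwa [add_sub_cancel_left]⟩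
      rw [map_add, hj', map_sub, ht]
      convert zero_mem (M g ^ (n + 1)) using 1
      ring
    choose f hf hf' using step
    let v : ∀ n, {v : S // Ideal.Quotient.mk _ v - θ (z n) ∈ M g ^ n} := fun n =>
      Nat.rec ⟨0, by simp⟩ (fun n w => ⟨f n w.1 w.2, hf n w.1 w.2⟩) n
    obtain ⟨L, hL⟩ := exists_limit (fun n => (v n).1) fun n => hf' n (v n).1 (v n).2
    refine ⟨Ideal.Quotient.mk _ L, AdicCompletion.ext_evalₐ fun n => (hbij n).1 ?_⟩
    rw [hΦ, hev, AdicCompletion.evalₐ_mk, hlev, Ideal.Quotient.eq]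
    have h1 := Ideal.mem_map_of_mem (Ideal.Quotient.mk (Ideal.span {g})) (hL n)
    rw [Ideal.map_pow, map_sub] at h1
    convert add_mem h1 (v n).2 using 1
    ring

end Groth.Agent.Lib.ArSing99.QuadCompletion
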