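import Groth.Agent.Lib.ArSing99.QuadCompletion
import Groth.Agent.H15.MorseLemma
import Groth.Prelude.Def_QuadSing
import Mathlib.RingTheory.Nullstellensatz
import Mathlib.RingTheory.Nakayama
import Mathlib.Algebra.MvPolynomial.PDeriv
import Mathlib.RingTheory.MvPowerSeries.Derivative
import Mathlib.RingTheory.MvPowerSeries.Trunc

/-!
# The Jacobian criterion for non-degenerate quadratic singularities of hypersurfaces
-/

set_option autoImplicit false

noncomputable section

universe u

namespace Groth.Agent.Lib.ArSing99.QuadJac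

open IsLocalRing VanCyc
open Groth.Agent.H61.PSFilt
open Groth.Agent.H15.MorseLemma (D sum_X_mul_D coeff_single_X_mul coeff_one_pderiv)

variable {k : Type u} [Field k] {N : ℕ}

local notation "S" => MvPowerSeries (Fin N) k

local notation "cc" => MvPowerSeries.constantCoeff (σ := Fin N) (R := k)

/-! ### Second-order part -/

/-- The Hessian at the origin. -/
def Hess (s : MvPowerSeries (Fin N) k) : Matrix (Fin N) (Fin N) k :=
  Matrix.of fun i j => MvPowerSeries.coeff (Finsupp.single j 1) (MvPowerSeries.pderiv k i s)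

theorem Hess_eq_polar (s : S) : Hess s = polarMatrix (quadPart s) := by
  classical
  ext i l
  rw [Hess, Matrix.of_apply, MvPowerSeries.coeff_pderiv, polarMatrix]
  rcases eq_or_ne i l with rfl | hil
  · simp [quadPart, ← Finsupp.single_add, mul_comm]
    norm_num
  · rcases lt_or_gt_of_ne hil with h | h
    · simp [quadPart, hil, h, hil.symm, add_comm]
    · simp [quadPart, hil, h, hil.symm, h.not_gt]

theorem coeff_single_of_sq {x : S} (hx : x ∈ XI (Fin N) k ^ 2) (j : Fin N) :
    MvPowerSeries.coeff (Finsupp.single j 1) x = 0 :=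
  (mem_sq_iff.1 hx).2 j

theorem sub_C_mem (c : S) : c - MvPowerSeries.C (cc c) ∈ XI (Fin N) k :=
  mem_iff_constantCoeff.2 (by simp)

theorem coeff_single_mul (c d : S) (hd : cc d = 0) (j : Fin N) :
    MvPowerSeries.coeff (Finsupp.single j 1) (c * d) = cc c * MvPowerSeries.coeff (Finsupp.single j 1) d := by
  have h : c * d - MvPowerSeries.C (cc c) * d ∈ XI (Fin N) k ^ 2 := by
    rw [← sub_mul, pow_two]
    exact Ideal.mul_mem_mul (sub_C_mem c) (mem_iff_constantCoeff.2 hd)
  have h2 := coeff_single_of_sq h j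
  rwa [map_sub, MvPowerSeries.coeff_C_mul, sub_eq_zero] at h2

theorem constantCoeff_pderiv (s : S) (i : Fin N) :
    cc (MvPowerSeries.pderiv k i s) = MvPowerSeries.coeff (Finsupp.single i 1) s := by
  rw [← MvPowerSeries.coeff_zero_eq_constantCoeff_apply, MvPowerSeries.coeff_pderiv]
  simp

theorem pderiv_mem {s : S} (hs : s ∈ XI (Fin N) k ^ 2) (i : Fin N) :
    MvPowerSeries.pderiv k i s ∈ XI (Fin N) k :=
  mem_iff_constantCoeff.2 (by rw [constantCoeff_pderiv, coeff_single_of_sq hs])

theorem Hess_mul {c s : S} (hs : s ∈ XI (Fin N) k ^ 2) : Hess (c * s) = cc c • Hess s := by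
  ext i j
  simp only [Hess, Matrix.of_apply, Matrix.smul_apply, smul_eq_mul, Derivation.leibniz, map_add]
  rw [coeff_single_mul c _ (mem_iff_constantCoeff.1 (pderiv_mem hs i)), mul_comm s,
    coeff_single_mul _ s (mem_sq_iff.1 hs).1, coeff_single_of_sq hs, mul_zero, add_zero]

theorem Hess_mul_mul {U V : S} (hU : cc U = 0) (hV : cc V = 0) (i j : Fin N) :
    Hess (U * V) i j =
      MvPowerSeries.coeff (Finsupp.single i 1) U * MvPowerSeries.coeff (Finsupp.single j 1) V +
      MvPowerSeries.coeff (Finsupp.single j 1) U * MvPowerSeries.coeff (Finsupp.single i 1) V := by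
  simp only [Hess, Matrix.of_apply, Derivation.leibniz, smul_eq_mul, map_add]
  rw [mul_comm U, mul_comm V, coeff_single_mul _ U hU, coeff_single_mul _ V hV,
    constantCoeff_pderiv, constantCoeff_pderiv]
  ring

/-- The linear parts of a family of series. -/
def lin (U : Fin N → MvPowerSeries (Fin N) k) : Matrix (Fin N) (Fin N) k :=
  Matrix.of fun a j => MvPowerSeries.coeff (Finsupp.single j 1) (U a)

theorem Hess_form (U : Fin N → S) (hU : ∀ a, cc (U a) = 0) (W : Fin N → Fin N → S) :
    Hess (∑ a, U a * ∑ b, U b * W a b) =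
      (lin U).transpose * ((Matrix.of fun a b => cc (W a b)) + (Matrix.of fun a b => cc (W a b)).transpose) * lin U := by
  ext i j
  have h : ∀ a b, Hess (U a * (U b * W a b)) i j =
      cc (W a b) * (lin U a i * lin U b j + lin U a j * lin U b i) := fun a b => by
    have e : U a * (U b * W a b) = W a b * (U a * U b) := by ring
    have hm : U a * U b ∈ XI (Fin N) k ^ 2 := by
      rw [pow_two]; exact Ideal.mul_mem_mul (mem_iff_constantCoeff.2 (hU a)) (mem_iff_constantCoeff.2 (hU b))
    rw [e, Hess_mul hm, Matrix.smul_apply, Hess_mul_mul (hU a) (hU b), smul_eq_mul]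
    rfl
  have hsum : Hess (∑ a, U a * ∑ b, U b * W a b) i j = ∑ a, ∑ b, Hess (U a * (U b * W a b)) i j := by
    simp only [Finset.mul_sum, Hess, Matrix.of_apply, map_sum]
  rw [hsum, Finset.sum_congr rfl fun a _ => Finset.sum_congr rfl fun b _ => h a b]
  simp only [mul_add, Finset.sum_add_distrib, add_mul, Matrix.add_apply, Matrix.mul_apply,
    Finset.sum_mul, Matrix.transpose_apply, Matrix.of_apply]
  congr 1
  · rw [Finset.sum_comm]
    exact Finset.sum_congr rfl fun b _ => Finset.sum_congr rfl fun a _ => by ring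
  · exact Finset.sum_congr rfl fun a _ => Finset.sum_congr rfl fun b _ => by ring

theorem exists_form (g : S) (hg : g ∈ XI (Fin N) k ^ 2) :
    ∃ F : Fin N → Fin N → S, g = ∑ a, MvPowerSeries.X a * ∑ b, MvPowerSeries.X b * F a b := by
  refine ⟨fun a b => D b (D a g), ?_⟩
  have hlin : ∀ a, cc (D a g) = 0 := fun a => by
    show (if ∀ j < a, (0 : Fin N →₀ ℕ) j = 0 then _ else _) = _
    rw [if_pos]
    · simpa using coeff_single_of_sq hg a
    · intros
      rfl
  conv_lhs => rw [← sum_X_mul_D g (mem_sq_iff.1 hg).1]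
  exact Finset.sum_congr rfl fun a _ => by rw [sum_X_mul_D _ (hlin a)]

/-! ### Quotients by a series without low terms -/

theorem constantCoeff_eq_of_sub_mem {g : S} (hg : g ∈ XI (Fin N) k) {v w : S}
    (h : Ideal.Quotient.mk (Ideal.span {g}) v = Ideal.Quotient.mk (Ideal.span {g}) w) : cc v = cc w := by
  rw [Ideal.Quotient.eq] at h
  have h2 := mem_iff_constantCoeff.1 ((Ideal.span_singleton_le_iff_mem (I := XI (Fin N) k)).2 hg h)
  rwa [map_sub, sub_eq_zero] at h2

theorem isUnit_mk_iff {g : S} (hg : g ∈ XI (Fin N) k) (v : S) :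
    IsUnit (Ideal.Quotient.mk (Ideal.span {g}) v) ↔ cc v ≠ 0 := by
  refine ⟨fun h h0 => ?_, fun h => (MvPowerSeries.isUnit_iff_constantCoeff.2 (isUnit_iff_ne_zero.2 h)).map _⟩
  obtain ⟨w, hw⟩ := h.exists_right_inv
  obtain ⟨w, rfl⟩ := Ideal.Quotient.mk_surjective w
  rw [← map_mul, ← map_one (Ideal.Quotient.mk (Ideal.span {g}))] at hw
  have := constantCoeff_eq_of_sub_mem hg hw
  rw [map_mul, h0, zero_mul, map_one] at this
  exact zero_ne_one this

theorem residue_eq {g g' : MvPowerSeries (Fin N) k} (hg1 : g ∈ XI (Fin N) k) (hg1' : g' ∈ XI (Fin N) k)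
    (ψ : (MvPowerSeries (Fin N) k ⧸ Ideal.span {g'}) ≃ₐ[k] (MvPowerSeries (Fin N) k ⧸ Ideal.span {g})) :
    ∀ v W : S, Ideal.Quotient.mk _ W = ψ (Ideal.Quotient.mk _ v) → cc W = cc v := by
  intro v W h
  by_contra hne
  have hu : IsUnit (Ideal.Quotient.mk (Ideal.span {g}) (W - MvPowerSeries.C (cc v))) :=
    (isUnit_mk_iff hg1 _).2 (by rw [map_sub, MvPowerSeries.constantCoeff_C]; exact sub_ne_zero.2 hne)
  have he : Ideal.Quotient.mk (Ideal.span {g}) (W - MvPowerSeries.C (cc v)) =
      ψ (Ideal.Quotient.mk _ (v - MvPowerSeries.C (cc v))) := by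
    rw [map_sub, h, map_sub, map_sub]
    exact congrArg _ (ψ.commutes (cc v)).symm
  rw [he] at hu
  have := hu.map ψ.symm
  rw [ψ.symm_apply_apply, isUnit_mk_iff hg1', map_sub, MvPowerSeries.constantCoeff_C, sub_self] at this
  exact this rfl

/-- Lifts of the images of the variables under an isomorphism have independent linear parts. -/
theorem lin_det_ne_zero {g g' : MvPowerSeries (Fin N) k} (hg : g ∈ XI (Fin N) k ^ 2) (hg1' : g' ∈ XI (Fin N) k)
    (ψ : (MvPowerSeries (Fin N) k ⧸ Ideal.span {g'}) ≃ₐ[k] (MvPowerSeries (Fin N) k ⧸ Ideal.span {g}))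
    (U : Fin N → MvPowerSeries (Fin N) k)
    (hU : ∀ a, Ideal.Quotient.mk _ (U a) = ψ (Ideal.Quotient.mk _ (MvPowerSeries.X a))) :
    (lin U).det ≠ 0 := by
  have hg1 : g ∈ XI (Fin N) k := Ideal.pow_le_self two_ne_zero hg
  have hres := residue_eq hg1 hg1' ψ
  have hU0 : ∀ a, cc (U a) = 0 := fun a => by rw [hres _ _ (hU a), MvPowerSeries.constantCoeff_X]
  have hlift : ∀ l : Fin N, ∃ B : Fin N → k, ∀ j,
      ∑ a, B a * lin U a j = if l = j then 1 else 0 := by
    intro l
    obtain ⟨v, hv⟩ := Ideal.Quotient.mk_surjective (I := Ideal.span {g'})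
      (ψ.symm (Ideal.Quotient.mk _ (MvPowerSeries.X l)))
    have hv' : Ideal.Quotient.mk (Ideal.span {g}) (MvPowerSeries.X l) = ψ (Ideal.Quotient.mk _ v) := by
      rw [hv, ψ.apply_symm_apply]
    have hv0 : cc v = 0 := by rw [← hres _ _ hv', MvPowerSeries.constantCoeff_X]
    choose V hV using fun a : Fin N =>
      Ideal.Quotient.mk_surjective (I := Ideal.span {g}) (ψ (Ideal.Quotient.mk _ (D a v)))
    refine ⟨fun a => cc (V a), fun j => ?_⟩
    rw [← sum_X_mul_D v hv0] at hv'
    simp only [map_sum, map_mul, ← hU, ← hV] at hv'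
    simp only [← map_mul, ← map_sum] at hv'
    have h2 := coeff_single_of_sq
      ((Ideal.span_singleton_le_iff_mem (I := XI (Fin N) k ^ 2)).2 hg (Ideal.Quotient.eq.1 hv')) j
    rw [map_sub, sub_eq_zero, map_sum, MvPowerSeries.coeff_index_single_X] at h2
    rw [show (if l = j then (1 : k) else 0) = if j = l then 1 else 0 by simp [eq_comm], h2]
    exact Finset.sum_congr rfl fun a _ => by rw [mul_comm (U a), coeff_single_mul _ _ (hU0 a), lin, Matrix.of_apply]
  choose B hB using hlift
  exact (Matrix.isUnit_det_of_left_inverse (B := Matrix.of B)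
    (by ext l j; rw [Matrix.mul_apply, Matrix.one_apply]; exact hB l j)).ne_zero

theorem det_Hess_ne_zero_of_equiv {g g' : MvPowerSeries (Fin N) k} (hg : g ∈ XI (Fin N) k ^ 2)
    (hg' : g' ∈ XI (Fin N) k ^ 2) (hH : (Hess g').det ≠ 0)
    (ψ : (MvPowerSeries (Fin N) k ⧸ Ideal.span {g'}) ≃ₐ[k] (MvPowerSeries (Fin N) k ⧸ Ideal.span {g})) :
    (Hess g).det ≠ 0 := by
  have hg1 : g ∈ XI (Fin N) k := Ideal.pow_le_self two_ne_zero hg
  have hg1' : g' ∈ XI (Fin N) k := Ideal.pow_le_self two_ne_zero hg'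
  have hres := residue_eq hg1 hg1' ψ
  obtain ⟨F, hF⟩ := exists_form g' hg'
  choose U hU using fun a : Fin N =>
    Ideal.Quotient.mk_surjective (I := Ideal.span {g}) (ψ (Ideal.Quotient.mk _ (MvPowerSeries.X a)))
  choose W hW using fun a b : Fin N =>
    Ideal.Quotient.mk_surjective (I := Ideal.span {g}) (ψ (Ideal.Quotient.mk _ (F a b)))
  have hU0 : ∀ a, cc (U a) = 0 := fun a => by rw [hres _ _ (hU a), MvPowerSeries.constantCoeff_X]
  have hker : Ideal.Quotient.mk (Ideal.span {g}) (∑ a, U a * ∑ b, U b * W a b) = 0 := by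
    simp only [map_sum, map_mul, hU, hW]
    simp only [← map_mul, ← map_sum]
    rw [← hF, Ideal.Quotient.mk_singleton_self, map_zero]
  obtain ⟨c, hc⟩ := Ideal.mem_span_singleton'.1 (Ideal.Quotient.eq_zero_iff_mem.1 hker)
  have key := congrArg Hess hc
  rw [Hess_mul hg, Hess_form U hU0] at key
  have hA : Hess g' = (Matrix.of fun a b => cc (W a b)) + (Matrix.of fun a b => cc (W a b)).transpose := by
    ext i j
    rw [Matrix.add_apply, Matrix.transpose_apply, Matrix.of_apply, Matrix.of_apply, hres _ _ (hW i j),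
      hres _ _ (hW j i), hF]
    exact coeff_one_pderiv i j F
  rw [← hA] at key
  have hL : (lin U).det ≠ 0 := lin_det_ne_zero hg hg1' ψ U hU
  intro h0
  have := congrArg Matrix.det key
  rw [Matrix.det_smul, h0, mul_zero, Matrix.det_mul, Matrix.det_mul, Matrix.det_transpose] at this
  exact mul_ne_zero (mul_ne_zero hL hH) hL this.symm

/-! ### A point of a hypersurface -/

section Point

variable (a : Fin N → k)

/-- Translation by a point. -/
def shift : MvPolynomial (Fin N) k ≃ₐ[k] MvPolynomial (Fin N) k :=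
  AlgEquiv.ofAlgHom (MvPolynomial.aeval fun i => MvPolynomial.X i + MvPolynomial.C (a i))
    (MvPolynomial.aeval fun i => MvPolynomial.X i - MvPolynomial.C (a i))
    (MvPolynomial.algHom_ext fun i => by simp) (MvPolynomial.algHom_ext fun i => by simp)

/-- The expansion at a point. -/
def φ : MvPolynomial (Fin N) k →ₐ[k] MvPowerSeries (Fin N) k :=
  (MvPolynomial.coeToMvPowerSeries.algHom k).comp (shift a).toAlgHom

theorem φ_apply (q : MvPolynomial (Fin N) k) :
    φ a q = ((shift a q : MvPolynomial (Fin N) k) : MvPowerSeries (Fin N) k) := by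
  rw [φ, AlgHom.comp_apply, MvPolynomial.coeToMvPowerSeries.algHom_apply]
  simp

theorem constantCoeff_shift (q : MvPolynomial (Fin N) k) :
    MvPolynomial.constantCoeff (shift a q) = MvPolynomial.eval a q := by
  induction q using MvPolynomial.induction_on with
  | C c => simp [shift]
  | add p q hp hq => simp [map_add, hp, hq]
  | mul_X p i hp =>
    rw [map_mul, map_mul, map_mul, hp]
    simp [shift]

theorem constantCoeff_φ (q : MvPolynomial (Fin N) k) : cc (φ a q) = MvPolynomial.eval a q := by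
  rw [φ_apply, ← MvPowerSeries.coeff_zero_eq_constantCoeff_apply, MvPolynomial.coeff_coe,
    ← MvPolynomial.constantCoeff_eq, constantCoeff_shift]

theorem pderiv_φ (q : MvPolynomial (Fin N) k) (i : Fin N) :
    MvPowerSeries.pderiv k i (φ a q) = φ a (MvPolynomial.pderiv i q) := by
  rw [φ_apply, φ_apply, MvPowerSeries.pderiv_coe]
  congr 1
  induction q using MvPolynomial.induction_on with
  | C c => simp [shift]
  | add p q hp hq => simp [map_add, hp, hq]
  | mul_X p j hp =>
    rw [map_mul, MvPolynomial.pderiv_mul, MvPolynomial.pderiv_mul, hp, map_add, map_mul, map_mul]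
    congr 2
    rw [show shift a (MvPolynomial.X j) = MvPolynomial.X j + MvPolynomial.C (a j) by simp [shift], map_add,
      MvPolynomial.pderiv_C, add_zero, MvPolynomial.pderiv_X]
    rcases eq_or_ne j i with rfl | h <;> simp [*]

end Point

theorem eq_maximalIdeal_of_le_sup_sq {O : Type u} [CommRing O] [IsLocalRing O] (J : Ideal O)
    (hfg : (maximalIdeal O).FG) (h1 : J ≤ maximalIdeal O) (h2 : maximalIdeal O ≤ J ⊔ maximalIdeal O ^ 2) :
    J = maximalIdeal O :=
  le_antisymm h1 (Submodule.le_of_le_smul_of_le_jacobson_bot hfg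
    (IsLocalRing.jacobson_eq_maximalIdeal (⊥ : Ideal O) bot_ne_top).symm.le (by rwa [smul_eq_mul, ← pow_two]))

/-- The completion is `k`-isomorphic to the quotient of the power series ring by a non-degenerate quadratic series. -/
def HasModel (O : Type u) [CommRing O] [IsLocalRing O] [Algebra k O] (N : ℕ) : Prop :=
  ∃ g : MvPowerSeries (Fin N) k, NondegQuadSeries g ∧
    Nonempty (AdicCompletion (IsLocalRing.maximalIdeal O) O ≃ₐ[k] (MvPowerSeries (Fin N) k ⧸ Ideal.span {g}))

/-- The Jacobian ideal is the maximal ideal at a point of the Jacobian locus of a hypersurface iff the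
point is a non-degenerate quadratic singularity. -/
theorem iff_nondeg [IsAlgClosed k] (f : MvPolynomial (Fin N) k)
    (P : Ideal (MvPolynomial (Fin N) k ⧸ Ideal.span {f})) [P.IsMaximal]
    (hP : ∀ j : Fin N, Ideal.Quotient.mk (Ideal.span {f}) (MvPolynomial.pderiv j f) ∈ P) :
    Ideal.map (algebraMap (MvPolynomial (Fin N) k ⧸ Ideal.span {f}) (Localization.AtPrime P))
        (Ideal.span (Set.range fun j : Fin N =>
          Ideal.Quotient.mk (Ideal.span {f}) (MvPolynomial.pderiv j f))) =
      IsLocalRing.maximalIdeal (Localization.AtPrime P) ↔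
    HasModel (k := k) (Localization.AtPrime P) N := by
  classical
  haveI : (P.comap (Ideal.Quotient.mk (Ideal.span {f}))).IsMaximal :=
    Ideal.comap_isMaximal_of_surjective _ Ideal.Quotient.mk_surjective
  obtain ⟨a, ha⟩ := MvPolynomial.isMaximal_iff_eq_vanishingIdeal_singleton.1 this
  have hPa : ∀ q, Ideal.Quotient.mk (Ideal.span {f}) q ∈ P ↔ MvPolynomial.eval a q = 0 := fun q => by
    rw [← Ideal.mem_comap, ha, MvPolynomial.mem_vanishingIdeal_iff]
    simp [MvPolynomial.coe_aeval_eq_eval]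
  set g : S := φ a f with hgdef
  have hg2 : g ∈ XI (Fin N) k ^ 2 := mem_sq_iff.2 ⟨by
      rw [constantCoeff_φ, ← hPa, Ideal.Quotient.mk_singleton_self]; exact zero_mem _,
    fun i => by rw [← constantCoeff_pderiv, pderiv_φ, constantCoeff_φ, ← hPa]; exact hP i⟩
  have hg1 : g ∈ XI (Fin N) k := Ideal.pow_le_self two_ne_zero hg2
  let θ₀ : (MvPolynomial (Fin N) k ⧸ Ideal.span {f}) →ₐ[k] S ⧸ Ideal.span {g} :=
    Ideal.Quotient.liftₐ _ ((Ideal.Quotient.mkₐ k _).comp (φ a)) fun q hq => by
      obtain ⟨c, rfl⟩ := Ideal.mem_span_singleton'.1 hq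
      rw [AlgHom.comp_apply, Ideal.Quotient.mkₐ_eq_mk, map_mul, Ideal.Quotient.eq_zero_iff_mem]
      exact Ideal.mul_mem_left _ _ (Ideal.mem_span_singleton_self _)
  have hθ₀ : ∀ q, θ₀ (Ideal.Quotient.mk _ q) = Ideal.Quotient.mk _ (φ a q) := fun q => rfl
  have hunit : ∀ y : P.primeCompl, IsUnit (θ₀ y) := by
    rintro ⟨y, hy⟩
    obtain ⟨q, rfl⟩ := Ideal.Quotient.mk_surjective y
    show IsUnit (θ₀ (Ideal.Quotient.mk _ q))
    rw [hθ₀, isUnit_mk_iff hg1, constantCoeff_φ]
    exact fun h => hy ((hPa q).2 h)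
  let θ : Localization.AtPrime P →ₐ[k] S ⧸ Ideal.span {g} := IsLocalization.liftAlgHom hunit
  have hθ : ∀ q, θ (algebraMap _ _ (Ideal.Quotient.mk (Ideal.span {f}) q)) = Ideal.Quotient.mk _ (φ a q) :=
    fun q => IsLocalization.lift_eq _ _
  have hshift : ∀ r, φ a ((shift a).symm r) = ((r : MvPolynomial (Fin N) k) : S) := fun r => by
    rw [φ_apply, AlgEquiv.apply_symm_apply]
  have hθle : (maximalIdeal (Localization.AtPrime P)).map θ ≤ QuadCompletion.M g := by
    rw [← IsLocalization.AtPrime.map_eq_maximalIdeal P (Localization.AtPrime P), Ideal.map_le_iff_le_comap,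
      Ideal.map_le_iff_le_comap]
    intro b hb
    obtain ⟨q, rfl⟩ := Ideal.Quotient.mk_surjective b
    rw [Ideal.mem_comap, Ideal.mem_comap, hθ]
    exact Ideal.mem_map_of_mem _ (mem_iff_constantCoeff.2 (by rw [constantCoeff_φ]; exact (hPa q).1 hb))
  have hsur : ∀ (n : ℕ) (c : S ⧸ Ideal.span {g}), ∃ z, θ z - c ∈ QuadCompletion.M g ^ n := by
    intro n c
    obtain ⟨v, rfl⟩ := Ideal.Quotient.mk_surjective c
    refine ⟨algebraMap _ (Localization.AtPrime P) (Ideal.Quotient.mk (Ideal.span {f}) ((shift a).symm (MvPowerSeries.truncTotal n v))), ?_⟩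
    rw [hθ, hshift, ← map_sub, QuadCompletion.M, ← Ideal.map_pow]
    refine Ideal.mem_map_of_mem _ ?_
    rw [← neg_sub]
    exact neg_mem (sub_truncTotal_mem n v)
  have hmem : ∀ (n : ℕ) (z : Localization.AtPrime P),
      θ z ∈ QuadCompletion.M g ^ n ↔ z ∈ maximalIdeal (Localization.AtPrime P) ^ n := by
    intro n z
    refine ⟨fun hz => ?_, fun hz => Ideal.pow_right_mono hθle n ?_⟩
    swap
    · rw [← Ideal.map_pow]; exact Ideal.mem_map_of_mem _ hz
    obtain ⟨⟨b, s⟩, hbs⟩ := IsLocalization.surj P.primeCompl z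
    have hs : IsUnit (algebraMap _ (Localization.AtPrime P) (s : MvPolynomial (Fin N) k ⧸ Ideal.span {f})) :=
      IsLocalization.map_units _ s
    rw [← Ideal.mul_unit_mem_iff_mem _ hs]
    dsimp only at hbs
    rw [hbs]
    have hb := Ideal.mul_mem_right (θ (algebraMap _ _ (s : MvPolynomial (Fin N) k ⧸ Ideal.span {f}))) _ hz
    rw [← map_mul, hbs] at hb
    obtain ⟨q, rfl⟩ := Ideal.Quotient.mk_surjective b
    rw [hθ, QuadCompletion.M, ← Ideal.map_pow,
      Ideal.mem_map_iff_of_surjective _ Ideal.Quotient.mk_surjective] at hb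
    obtain ⟨j, hj, hjq⟩ := hb
    obtain ⟨c, hc⟩ := Ideal.mem_span_singleton'.1 (Ideal.Quotient.eq.1 hjq.symm)
    set r := shift a q - shift a f * MvPowerSeries.truncTotal n c with hr
    have hr1 : (r : S) ∈ XI (Fin N) k ^ n := by
      have e : (r : S) = j + g * (c - (MvPowerSeries.truncTotal n c : MvPolynomial (Fin N) k)) := by
        rw [hr, ← MvPolynomial.coeToMvPowerSeries.ringHom_apply, map_sub, map_mul,
          MvPolynomial.coeToMvPowerSeries.ringHom_apply, MvPolynomial.coeToMvPowerSeries.ringHom_apply,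
          MvPolynomial.coeToMvPowerSeries.ringHom_apply, ← φ_apply, ← φ_apply, ← hgdef]
        linear_combination -hc
      rw [e]
      exact add_mem hj (Ideal.mul_mem_left _ _ (sub_truncTotal_mem n c))
    have hr2 : r ∈ MvPolynomial.idealOfVars (Fin N) k ^ n := (MvPolynomial.mem_pow_idealOfVars_iff' n r).2
      fun x hx => by rw [← MvPolynomial.coeff_coe]; exact low_of_mem hr1 x hx
    have hle : (MvPolynomial.idealOfVars (Fin N) k).map
        ((Ideal.Quotient.mk (Ideal.span {f})).comp (shift a).symm.toRingEquiv.toRingHom) ≤ P := by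
      rw [MvPolynomial.idealOfVars, Ideal.map_span, Ideal.span_le]
      rintro _ ⟨_, ⟨i, rfl⟩, rfl⟩
      refine (hPa _).2 ?_
      simp [shift]
    have hq : Ideal.Quotient.mk (Ideal.span {f}) q ∈ P ^ n := by
      have h1 := Ideal.mem_map_of_mem ((Ideal.Quotient.mk (Ideal.span {f})).comp
        (shift a).symm.toRingEquiv.toRingHom) hr2
      rw [Ideal.map_pow] at h1
      have h2 : ((Ideal.Quotient.mk (Ideal.span {f})).comp (shift a).symm.toRingEquiv.toRingHom) r =
          Ideal.Quotient.mk (Ideal.span {f}) q := by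
        show Ideal.Quotient.mk (Ideal.span {f}) ((shift a).symm r) = _
        rw [hr, map_sub, map_mul, AlgEquiv.symm_apply_apply, AlgEquiv.symm_apply_apply, map_sub, map_mul,
          Ideal.Quotient.mk_singleton_self, zero_mul, sub_zero]
      exact h2 ▸ Ideal.pow_right_mono hle n h1
    have := Ideal.mem_map_of_mem (algebraMap _ (Localization.AtPrime P)) hq
    rwa [Ideal.map_pow, IsLocalization.AtPrime.map_eq_maximalIdeal P (Localization.AtPrime P)] at this
  set d : Fin N → Localization.AtPrime P := fun i =>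
    algebraMap _ _ (Ideal.Quotient.mk (Ideal.span {f}) (MvPolynomial.pderiv i f)) with hd
  have hθd : ∀ i, θ (d i) = Ideal.Quotient.mk _ (MvPowerSeries.pderiv k i g) := fun i => by
    rw [hd]; simp only; rw [hθ, hgdef, pderiv_φ]
  have hJ : Ideal.map (algebraMap (MvPolynomial (Fin N) k ⧸ Ideal.span {f}) (Localization.AtPrime P))
      (Ideal.span (Set.range fun j : Fin N =>
        Ideal.Quotient.mk (Ideal.span {f}) (MvPolynomial.pderiv j f))) = Ideal.span (Set.range d) := by
    rw [Ideal.map_span, ← Set.range_comp]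
    rfl
  rw [hJ]
  have hdm : Ideal.span (Set.range d) ≤ maximalIdeal (Localization.AtPrime P) := by
    rw [← IsLocalization.AtPrime.map_eq_maximalIdeal P (Localization.AtPrime P), Ideal.span_le]
    rintro _ ⟨i, rfl⟩
    exact Ideal.mem_map_of_mem _ (hP i)
  have hnd : NondegQuadSeries g ↔ (Hess g).det ≠ 0 := by
    rw [Hess_eq_polar, ← isUnit_iff_ne_zero]
    exact ⟨fun h => h.2, fun h => ⟨⟨(mem_sq_iff.1 hg2).1, (mem_sq_iff.1 hg2).2⟩, h⟩⟩
  have hiso := QuadCompletion.nonempty_equiv (O := Localization.AtPrime P) g hg1 θ hsur hmem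
  have key : Ideal.span (Set.range d) = maximalIdeal (Localization.AtPrime P) ↔ (Hess g).det ≠ 0 := by
    constructor
    · intro hEq
      have hx : ∀ l : Fin N, ∃ c : Fin N → Localization.AtPrime P, ∑ i, c i * d i =
          algebraMap _ _ (Ideal.Quotient.mk (Ideal.span {f}) ((shift a).symm (MvPolynomial.X l))) := fun l => by
        rw [← Ideal.mem_span_range_iff_exists_fun, hEq,
          ← IsLocalization.AtPrime.map_eq_maximalIdeal P (Localization.AtPrime P)]
        refine Ideal.mem_map_of_mem _ ((hPa _).2 ?_)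
        simp [shift]
      choose c hc using hx
      choose C hC using fun l i => Ideal.Quotient.mk_surjective (I := Ideal.span {g}) (θ (c l i))
      refine (Matrix.isUnit_det_of_left_inverse (B := Matrix.of fun l i => cc (C l i)) ?_).ne_zero
      ext l j
      have h := congrArg θ (hc l)
      simp only [map_sum, map_mul, hθd, ← hC] at h
      rw [hθ, hshift, MvPolynomial.coe_X] at h
      simp only [← map_mul, ← map_sum] at h
      have h2 := coeff_single_of_sq
        ((Ideal.span_singleton_le_iff_mem (I := XI (Fin N) k ^ 2)).2 hg2 (Ideal.Quotient.eq.1 h)) j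
      rw [map_sub, sub_eq_zero, map_sum, MvPowerSeries.coeff_index_single_X] at h2
      rw [Matrix.mul_apply, Matrix.one_apply, show (if l = j then (1 : k) else 0) = if j = l then 1 else 0 by
        simp [eq_comm], ← h2]
      exact Finset.sum_congr rfl fun i _ => by
        rw [coeff_single_mul _ _ (mem_iff_constantCoeff.1 (pderiv_mem hg2 i))]; rfl
    · intro hdet
      refine eq_maximalIdeal_of_le_sup_sq (Ideal.span (Set.range d)) ?_ hdm ?_
      · rw [← IsLocalization.AtPrime.map_eq_maximalIdeal P (Localization.AtPrime P)]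
        exact Ideal.FG.map (IsNoetherian.noetherian P) _
      intro x hx
      have hxθ : θ x ∈ QuadCompletion.M g := hθle (Ideal.mem_map_of_mem _ hx)
      rw [QuadCompletion.M, Ideal.mem_map_iff_of_surjective _ Ideal.Quotient.mk_surjective] at hxθ
      obtain ⟨v, hv, hvx⟩ := hxθ
      set w : Fin N → k := fun j => MvPowerSeries.coeff (Finsupp.single j 1) v
      set r : Fin N → k := Matrix.vecMul w (Hess g)⁻¹
      have hr : Matrix.vecMul r (Hess g) = w := by
        rw [Matrix.vecMul_vecMul, Matrix.nonsing_inv_mul _ (isUnit_iff_ne_zero.2 hdet), Matrix.vecMul_one]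
      have hsq : v - ∑ i, MvPowerSeries.C (r i) * MvPowerSeries.pderiv k i g ∈ XI (Fin N) k ^ 2 := by
        refine mem_sq_iff.2 ⟨?_, fun j => ?_⟩
        · simp [mem_iff_constantCoeff.1 hv, mem_iff_constantCoeff.1 (pderiv_mem hg2 _)]
        · rw [map_sub, map_sum, sub_eq_zero]
          simp only [MvPowerSeries.coeff_C_mul]
          exact (congrFun hr j).symm
      have hz : x - ∑ i, algebraMap k _ (r i) * d i ∈ maximalIdeal (Localization.AtPrime P) ^ 2 := by
        rw [← hmem]
        have h1 := Ideal.mem_map_of_mem (Ideal.Quotient.mk (Ideal.span {g})) hsq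
        rw [Ideal.map_pow] at h1
        convert h1 using 1
        simp only [map_sub, map_sum, map_mul, AlgHom.commutes, hθd, hvx]
        rfl
      rw [← sub_add_cancel x (∑ i, algebraMap k _ (r i) * d i), add_comm]
      exact Submodule.add_mem_sup (Ideal.sum_mem _ fun i _ =>
        Ideal.mul_mem_left _ _ (Ideal.subset_span ⟨i, rfl⟩)) hz
  rw [key]
  constructor
  · exact fun h => ⟨g, hnd.2 h, hiso⟩
  · rintro ⟨g', ⟨⟨h0, h1⟩, hg'⟩, ⟨e'⟩⟩
    obtain ⟨e⟩ := hiso
    refine det_Hess_ne_zero_of_equiv hg2 (mem_sq_iff.2 ⟨h0, h1⟩) ?_ (e'.symm.trans e)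
    rw [Hess_eq_polar]
    exact IsUnit.ne_zero hg'

end Groth.Agent.Lib.ArSing99.QuadJac
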