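import Groth.Agent.Lib.ArSing99.Param
import Mathlib.RingTheory.DiscreteValuationRing.Basic
import Mathlib.RingTheory.Length
import Mathlib.RingTheory.Flat.EquationalCriterion
import Mathlib.RingTheory.RingHom.Flat

/-!
# Invariants and fixed loci of the normal involutions of `k[[x, y]]/(y^2 - x^(r+1))`
-/

set_option autoImplicit false

noncomputable section

universe u

namespace Groth.Agent.Lib.ArSing99

open Groth.Agent.H95.NodeSwap (hom_ext₁)

variable {k : Type u} [Field k] {r : ℕ} [NeZero (2 : k)]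

local notation "PS" => PowerSeries k
local notation "A" => ArSing.ring k r

theorem length_quot (n : ℕ) (f : A →+* (PS ⧸ Ideal.span {(PowerSeries.X : PS) ^ n}))
    (hf : Function.Surjective f) (I : Ideal A) (hI : RingHom.ker f = I) :
    Module.length A (A ⧸ I) = n := by
  subst hI
  letI : Algebra A (PS ⧸ Ideal.span {(PowerSeries.X : PS) ^ n}) := f.toAlgebra
  let e : (A ⧸ RingHom.ker f) ≃ₗ[A] (PS ⧸ Ideal.span {(PowerSeries.X : PS) ^ n}) :=
    LinearEquiv.ofBijective
      ((RingHom.ker f).liftQ (Algebra.linearMap A (PS ⧸ Ideal.span {(PowerSeries.X : PS) ^ n}))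
        fun a ha => ha)
      ⟨by
        rw [← LinearMap.ker_eq_bot, Submodule.ker_liftQ_eq_bot]
        exact fun a ha => ha, fun y => by
        obtain ⟨a, rfl⟩ := hf y
        exact ⟨Submodule.Quotient.mk a, rfl⟩⟩
  rw [e.length_eq, Module.length_eq_of_surjective (R := PS ⧸ Ideal.span {(PowerSeries.X : PS) ^ n}) hf,
    ← Module.length_eq_of_surjective (S := PS) (R := PS ⧸ Ideal.span {(PowerSeries.X : PS) ^ n})
      (M := PS ⧸ Ideal.span {(PowerSeries.X : PS) ^ n}) Ideal.Quotient.mk_surjective,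
    ← Ideal.span_singleton_pow, ← PowerSeries.maximalIdeal_eq_span_X,
    IsDiscreteValuationRing.length_quotient_pow_maximalIdeal]

theorem hom_xMap (σ : A →ₐ[k] A) (T : PS →ₐ[k] PS) (w : A) (hw : ev0 w = 0)
    (hx : σ (ArSing.x k r) = w) (hT : ArSing.xMap k r (T PowerSeries.X) = w) (P : PS) :
    σ (ArSing.xMap k r P) = ArSing.xMap k r (T P) :=
  AlgHom.congr_fun (hom_extA (σ.comp (ArSing.xMap k r)) ((ArSing.xMap k r).comp T)
    (by rw [AlgHom.comp_apply, AlgHom.comp_apply, xMap_X, hx, hT])
    (by rw [AlgHom.comp_apply, xMap_X, hx, hw])) P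

theorem map_apply (σ : A →ₐ[k] A) (T : PS →ₐ[k] PS) (w : A) (hw : ev0 w = 0)
    (hx : σ (ArSing.x k r) = w) (hT : ArSing.xMap k r (T PowerSeries.X) = w) (e : k)
    (hy : σ (ArSing.y k r) = algebraMap k A e * ArSing.y k r) (z : A) :
    coP (σ z) = T (coP z) ∧ coQ (σ z) = PowerSeries.C e * T (coQ z) :=
  co_eq (by
    conv_lhs => rw [co_spec z]
    rw [map_add, map_mul, hom_xMap σ T w hw hx hT, hom_xMap σ T w hw hx hT, hy, map_mul,
      PowerSeries.C_eq_algebraMap, AlgHom.commutes]
    ring)

theorem co_sub (z w : A) : coP (z - w) = coP z - coP w ∧ coQ (z - w) = coQ z - coQ w :=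
  co_eq (by conv_lhs => rw [co_spec z, co_spec w]
            simp only [map_sub]; ring)

theorem ext_co {z w : A} (h1 : coP z = coP w) (h2 : coQ z = coQ w) : z = w := by
  rw [co_spec z, co_spec w, h1, h2]

theorem algebraMap_neg_one : algebraMap k A (-1) = -1 := by rw [map_neg, map_one]

theorem y_mem_nonZeroDivisors : ArSing.y k r ∈ nonZeroDivisors A := by
  refine mem_nonZeroDivisors_iff_right.2 fun z hz => ?_
  have h := co_mul z (ArSing.y k r)
  rw [hz, co_y.1, co_y.2, ← map_zero (algebraMap k A), (co_algebraMap _).1, (co_algebraMap _).2,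
    map_zero, mul_zero, zero_add, mul_one, mul_one, mul_zero, add_zero] at h
  rw [co_spec z, ← h.2, (mul_eq_zero.1 h.1.symm).resolve_right (pow_ne_zero _ PowerSeries.X_ne_zero)]
  simp

theorem x_mem_nonZeroDivisors : ArSing.x k r ∈ nonZeroDivisors A := by
  refine mem_nonZeroDivisors_iff_right.2 fun z hz => ?_
  have h := co_mul z (ArSing.x k r)
  rw [hz, co_x.1, co_x.2, ← map_zero (algebraMap k A), (co_algebraMap _).1, (co_algebraMap _).2,
    map_zero, mul_zero, zero_mul, add_zero, mul_zero, zero_add] at h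
  rw [co_spec z, (mul_eq_zero.1 h.1.symm).resolve_right PowerSeries.X_ne_zero,
    (mul_eq_zero.1 h.2.symm).resolve_right PowerSeries.X_ne_zero]
  simp

/-- `x ↦ x`, `y ↦ -y`. -/
theorem main_neg_y (σ : A ≃ₐ[k] A) (hx : σ (ArSing.x k r) = ArSing.x k r)
    (hy : σ (ArSing.y k r) = -ArSing.y k r) :
    (∀ a : A, σ a = a ↔ a ∈ (ArSing.xMap k r).range) ∧
    ((ArSing.xMap k r).toRingHom.Flat ∧
      Ideal.map (ArSing.xMap k r) (IsLocalRing.maximalIdeal (PowerSeries k)) ≠ ⊤) ∧
    (∃ g : A, g ∈ nonZeroDivisors A ∧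
      Ideal.span (Set.range fun a : A => σ a - a) = Ideal.span {g}) ∧
    Module.length A (A ⧸ Ideal.span (Set.range fun a : A => σ a - a)) = r + 1 := by
  have h2 : (2 : k) ≠ 0 := two_ne
  have hσ : ∀ z, coP (σ z) = coP z ∧ coQ (σ z) = -coQ z := fun z => by
    have := map_apply σ.toAlgHom (AlgHom.id k PS) (ArSing.x k r) ev0_x hx (xMap_X r) (-1)
      (hy.trans (by rw [algebraMap_neg_one]; ring)) z
    simpa using this
  have hspan : Ideal.span (Set.range fun a : A => σ a - a) = Ideal.span {ArSing.y k r} := by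
    refine le_antisymm (Ideal.span_le.2 ?_) ((Ideal.span_singleton_le_iff_mem _).2 ?_)
    · rintro _ ⟨a, rfl⟩
      refine Ideal.mem_span_singleton'.2 ⟨ArSing.xMap k r (-coQ a - coQ a), ?_⟩
      refine ext_co ?_ ?_
      · rw [(co_mul _ _).1, (co_xMap _).1, (co_xMap _).2, co_y.1, (co_sub _ _).1, (hσ a).1]; simp
      · rw [(co_mul _ _).2, (co_xMap _).1, (co_xMap _).2, co_y.2, (co_sub _ _).2, (hσ a).2]; simp
    · have h := (Ideal.span (Set.range fun a : A => σ a - a)).mul_mem_left (algebraMap k A (-2⁻¹))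
        (Ideal.subset_span ⟨ArSing.y k r, rfl⟩)
      have h22 : algebraMap k A 2⁻¹ * 2 = 1 := by
        rw [← map_ofNat (algebraMap k A) 2, ← map_mul, inv_mul_cancel₀ h2, map_one]
      convert h using 1
      simp only [hy, map_neg]
      linear_combination (-(ArSing.y k r)) * h22
  refine ⟨fun a => ⟨fun ha => ⟨coP a, ?_⟩, ?_⟩, ⟨?_, ?_⟩, ⟨_, y_mem_nonZeroDivisors, hspan⟩, ?_⟩
  · show ArSing.xMap k r (coP a) = a
    have h := (hσ a).2
    rw [ha] at h
    refine ext_co (co_xMap _).1 ((co_xMap _).2.trans (Eq.symm (PowerSeries.ext fun i => ?_)))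
    have hi := congrArg (PowerSeries.coeff i) h
    rw [map_neg] at hi
    rw [map_zero]
    exact (mul_eq_zero.1 (show (2 : k) * PowerSeries.coeff i (coQ a) = 0 by linear_combination hi)).resolve_left h2
  · rintro ⟨P, rfl⟩
    exact ext_co (hσ _).1 (by rw [(hσ _).2]; simp [(co_xMap P).2])
  · show @Module.Flat PS A _ _ (ArSing.xMap k r).toRingHom.toAlgebra.toModule
    letI := (ArSing.xMap k r).toRingHom.toAlgebra
    let e : (PS × PS) ≃ₗ[PS] A :=
      { toFun := fun p => ArSing.xMap k r p.1 + ArSing.xMap k r p.2 * ArSing.y k r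
        invFun := fun z => (coP z, coQ z)
        map_add' := fun p q => by simp only [Prod.fst_add, Prod.snd_add, map_add]; ring
        map_smul' := fun c p => by
          simp only [Prod.smul_fst, Prod.smul_snd, smul_eq_mul, map_mul, RingHom.id_apply]
          show _ = ArSing.xMap k r c * _
          ring
        left_inv := fun p => Prod.ext (co_eq rfl).1 (co_eq rfl).2
        right_inv := fun z => (co_spec z).symm }
    exact Module.Flat.of_linearEquiv e.symm
  · refine ne_top_of_le_ne_top (IsLocalRing.maximalIdeal.isMaximal A).ne_top (Ideal.map_le_iff_le_comap.2 fun P hP => ?_)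
    rw [Ideal.mem_comap, mem_maximalIdeal]
    show PowerSeries.constantCoeff (coP _) = 0
    rw [(co_xMap P).1, ← PowerSeries.X_dvd_iff, ← Ideal.mem_span_singleton, ← PowerSeries.maximalIdeal_eq_span_X]
    exact hP
  · let π := Ideal.Quotient.mk (Ideal.span {(PowerSeries.X : PS) ^ (r + 1)})
    have hπ : π (PowerSeries.X ^ (r + 1)) = 0 := Ideal.Quotient.eq_zero_iff_mem.2 (Ideal.mem_span_singleton_self _)
    let f : A →+* PS ⧸ Ideal.span {(PowerSeries.X : PS) ^ (r + 1)} :=
      { toFun := fun z => π (coP z)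
        map_one' := by rw [← map_one (algebraMap k A), (co_algebraMap 1).1]; simp
        map_mul' := fun z w => by rw [(co_mul z w).1, map_add, map_mul, map_mul π (_ * _), hπ]; simp
        map_zero' := by rw [← map_zero (algebraMap k A), (co_algebraMap 0).1]; simp
        map_add' := fun z w => by rw [(co_add z w).1, map_add] }
    rw [hspan, length_quot (r + 1) f (fun q => ?_) _ (Ideal.ext fun z => ⟨fun hz => ?_, fun hz => ?_⟩)]
    · exact Nat.cast_succ r
    · obtain ⟨P, rfl⟩ := Ideal.Quotient.mk_surjective q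
      exact ⟨ArSing.xMap k r P, by show π _ = _; rw [(co_xMap P).1]⟩
    · obtain ⟨W, hW⟩ := Ideal.mem_span_singleton.1 (Ideal.Quotient.eq_zero_iff_mem.1 hz)
      refine Ideal.mem_span_singleton'.2 ⟨ArSing.xMap k r (coQ z) + ArSing.xMap k r W * ArSing.y k r, ?_⟩
      conv_rhs => rw [co_spec z, hW]
      rw [map_mul, map_pow, xMap_X]
      linear_combination (ArSing.xMap k r W) * y_sq (k := k) r
    · obtain ⟨c, rfl⟩ := Ideal.mem_span_singleton'.1 hz
      rw [RingHom.mem_ker]
      show π (coP (c * ArSing.y k r)) = 0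
      rw [(co_mul _ _).1, co_y.1, map_add, map_mul π (_ * _), hπ]; simp

theorem coeff_expand_two (F : PS) (i : ℕ) :
    PowerSeries.coeff i (PowerSeries.expand 2 two_ne_zero F) = if 2 ∣ i then PowerSeries.coeff (i / 2) F else 0 := by
  split_ifs with h
  · obtain ⟨j, rfl⟩ := h
    rw [Nat.mul_div_cancel_left _ two_pos, PowerSeries.coeff_expand_mul]
  · exact PowerSeries.coeff_expand_of_not_dvd 2 two_ne_zero F h

/-- Even and odd parts. -/
theorem exists_even_odd (F : PS) : ∃ E O : PS, F = PowerSeries.expand 2 two_ne_zero E +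
    PowerSeries.X * PowerSeries.expand 2 two_ne_zero O := by
  refine ⟨PowerSeries.mk fun i => PowerSeries.coeff (2 * i) F,
    PowerSeries.mk fun i => PowerSeries.coeff (2 * i + 1) F, PowerSeries.ext fun m => ?_⟩
  rw [map_add, coeff_expand_two]
  rcases Nat.even_or_odd' m with ⟨i, rfl | rfl⟩
  · rw [if_pos (dvd_mul_right 2 i), Nat.mul_div_cancel_left i two_pos, PowerSeries.coeff_mk]
    rcases i with _ | i
    · simp
    · rw [show 2 * (i + 1) = 2 * i + 1 + 1 by ring, PowerSeries.coeff_succ_X_mul, coeff_expand_two,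
        if_neg (by omega), add_zero]
  · rw [if_neg (by omega), PowerSeries.coeff_succ_X_mul, coeff_expand_two, if_pos (dvd_mul_right 2 i),
      Nat.mul_div_cancel_left i two_pos, PowerSeries.coeff_mk, zero_add]

theorem eq_zero_of_even_odd {E O : PS} (h : PowerSeries.expand 2 two_ne_zero E +
    PowerSeries.X * PowerSeries.expand 2 two_ne_zero O = 0) : E = 0 ∧ O = 0 := by
  refine ⟨PowerSeries.ext fun i => ?_, PowerSeries.ext fun i => ?_⟩
  · have h := congrArg (PowerSeries.coeff (2 * i)) h
    rw [map_add, map_zero, coeff_expand_two, if_pos (dvd_mul_right 2 i), Nat.mul_div_cancel_left i two_pos] at h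
    rcases i with _ | i
    · simpa using h
    · rw [show 2 * (i + 1) = 2 * i + 1 + 1 by ring, PowerSeries.coeff_succ_X_mul, coeff_expand_two,
        if_neg (by omega), add_zero] at h
      simpa using h
  · have h := congrArg (PowerSeries.coeff (2 * i + 1)) h
    rw [map_add, map_zero, coeff_expand_two, if_neg (by omega), PowerSeries.coeff_succ_X_mul, coeff_expand_two,
      if_pos (dvd_mul_right 2 i), Nat.mul_div_cancel_left i two_pos, zero_add] at h
    simpa using h

/-- `t ↦ -t`. -/
def negT : PS →ₐ[k] PS :=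
  { PowerSeries.rescale (-1 : k) with
    commutes' := fun c => by ext m; cases m <;> simp [PowerSeries.coeff_rescale, ← PowerSeries.C_eq_algebraMap, PowerSeries.coeff_C] }

theorem negT_X : negT (PowerSeries.X : PS) = -PowerSeries.X := PowerSeries.rescale_neg_one_X

theorem negT_expand (E : PS) : negT (PowerSeries.expand 2 two_ne_zero E) = PowerSeries.expand 2 two_ne_zero E := by
  refine PowerSeries.ext fun m => ?_
  show PowerSeries.coeff m (PowerSeries.rescale (-1 : k) _) = _
  rw [PowerSeries.coeff_rescale, coeff_expand_two]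
  split_ifs with h
  · obtain ⟨j, rfl⟩ := h; rw [pow_mul]; simp
  · simp

theorem sigma_x (σ : A ≃ₐ[k] A) (hx : σ (ArSing.x k r) = -ArSing.x k r) (e : k)
    (hy : σ (ArSing.y k r) = algebraMap k A e * ArSing.y k r) (z : A) :
    coP (σ z) = negT (coP z) ∧ coQ (σ z) = PowerSeries.C e * negT (coQ z) :=
  map_apply σ.toAlgHom negT (-ArSing.x k r) (by rw [map_neg, ev0_x, neg_zero]) hx
    (by rw [negT_X, map_neg, xMap_X]) e hy z

theorem phi_co {r' : ℕ} (φ : ArSing.ring k r' →ₐ[k] A) (hφx : φ (ArSing.x k r') = ArSing.x k r ^ 2)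
    (Y : PS) (Z : PS) (hφy : φ (ArSing.y k r') = ArSing.xMap k r Y + ArSing.xMap k r Z * ArSing.y k r) (w : ArSing.ring k r') :
    coP (φ w) = PowerSeries.expand 2 two_ne_zero (coP w) + PowerSeries.expand 2 two_ne_zero (coQ w) * Y ∧
    coQ (φ w) = PowerSeries.expand 2 two_ne_zero (coQ w) * Z := by
  have hP : ∀ P, φ (ArSing.xMap k r' P) = ArSing.xMap k r (PowerSeries.expand 2 two_ne_zero P) := fun P =>
    AlgHom.congr_fun (hom_extA (φ.comp (ArSing.xMap k r')) ((ArSing.xMap k r).comp (PowerSeries.expand 2 two_ne_zero))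
      (by rw [AlgHom.comp_apply, AlgHom.comp_apply, xMap_X, hφx, PowerSeries.expand_X, map_pow, xMap_X])
      (by rw [AlgHom.comp_apply, xMap_X, hφx, map_pow, ev0_x]; simp)) P
  exact co_eq (by
    conv_lhs => rw [co_spec w]
    rw [map_add, map_mul, hP, hP, hφy, map_add, map_mul, map_mul]; ring)

/-- `x ↦ -x`, `y ↦ y`. -/
theorem main_neg_x {r' : ℕ} (σ : A ≃ₐ[k] A) (hx : σ (ArSing.x k r) = -ArSing.x k r)
    (hy : σ (ArSing.y k r) = ArSing.y k r) (hr : 1 ≤ r)
    (φ : ArSing.ring k r' →ₐ[k] A) (hφx : φ (ArSing.x k r') = ArSing.x k r ^ 2)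
    (hφy : φ (ArSing.y k r') = ArSing.y k r) :
    (∀ a : A, σ a = a ↔ a ∈ φ.range) ∧
    (φ.toRingHom.Flat ∧ ∀ I : Ideal (ArSing.ring k r'), I.IsMaximal → Ideal.map φ I ≠ ⊤) ∧
    (∃ g : A, g ∈ nonZeroDivisors A ∧ Ideal.span (Set.range fun a : A => σ a - a) = Ideal.span {g}) ∧
    Module.length A (A ⧸ Ideal.span (Set.range fun a : A => σ a - a)) = 2 := by
  have h2 : (2 : k) ≠ 0 := two_ne
  have hσ : ∀ z, coP (σ z) = negT (coP z) ∧ coQ (σ z) = negT (coQ z) := fun z => by
    have := sigma_x σ hx 1 (hy.trans (by rw [map_one, one_mul])) z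
    simpa using this
  have hφ : ∀ w, coP (φ w) = PowerSeries.expand 2 two_ne_zero (coP w) ∧
      coQ (φ w) = PowerSeries.expand 2 two_ne_zero (coQ w) := fun w => by
    have := phi_co φ hφx 0 1 (by rw [hφy]; simp) w
    simpa using this
  have hfix : ∀ F : PS, negT F = F ↔ ∃ E, F = PowerSeries.expand 2 two_ne_zero E := fun F => by
    refine ⟨fun h => ?_, fun ⟨E, hE⟩ => by rw [hE, negT_expand]⟩
    obtain ⟨E, O, rfl⟩ := exists_even_odd F
    rw [map_add, map_mul, negT_X, negT_expand, negT_expand] at h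
    have hO := (eq_zero_of_even_odd (E := 0) (O := O + O) (by rw [map_zero, map_add]; linear_combination -h)).2
    refine ⟨E, ?_⟩
    have : O = 0 := PowerSeries.ext fun i => by
      have := congrArg (PowerSeries.coeff i) hO
      rw [map_add, map_zero] at this
      rw [map_zero]
      exact (mul_eq_zero.1 (show (2 : k) * PowerSeries.coeff i O = 0 by linear_combination this)).resolve_left h2
    rw [this]; simp
  have hspan : Ideal.span (Set.range fun a : A => σ a - a) = Ideal.span {ArSing.x k r} := by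
    refine le_antisymm (Ideal.span_le.2 ?_) ((Ideal.span_singleton_le_iff_mem _).2 ?_)
    · rintro _ ⟨a, rfl⟩
      obtain ⟨E, O, hP⟩ := exists_even_odd (coP a)
      obtain ⟨E', O', hQ⟩ := exists_even_odd (coQ a)
      refine Ideal.mem_span_singleton'.2 ⟨ArSing.xMap k r (-(2 : PS) * PowerSeries.expand 2 two_ne_zero O) +
        ArSing.xMap k r (-(2 : PS) * PowerSeries.expand 2 two_ne_zero O') * ArSing.y k r, ?_⟩
      refine ext_co ?_ ?_
      · rw [(co_mul _ _).1, (co_eq rfl).1, co_x.1, co_x.2, (co_sub _ _).1, (hσ a).1, hP, map_add negT, map_mul negT,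
          negT_X, negT_expand, negT_expand]
        ring
      · rw [(co_mul _ _).2, (co_eq rfl).2, co_x.1, co_x.2, (co_sub _ _).2, (hσ a).2, hQ, map_add negT, map_mul negT,
          negT_X, negT_expand, negT_expand]
        ring
    · have h := (Ideal.span (Set.range fun a : A => σ a - a)).mul_mem_left (algebraMap k A (-2⁻¹))
        (Ideal.subset_span ⟨ArSing.x k r, rfl⟩)
      have h22 : algebraMap k A 2⁻¹ * 2 = 1 := by
        rw [← map_ofNat (algebraMap k A) 2, ← map_mul, inv_mul_cancel₀ h2, map_one]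
      convert h using 1
      simp only [hx, map_neg]
      linear_combination (-(ArSing.x k r)) * h22
  refine ⟨fun a => ⟨fun ha => ?_, ?_⟩, ⟨?_, ?_⟩, ⟨_, x_mem_nonZeroDivisors, hspan⟩, ?_⟩
  · obtain ⟨E, hE⟩ := (hfix _).1 (show negT (coP a) = coP a by rw [← (hσ a).1, ha])
    obtain ⟨E', hE'⟩ := (hfix _).1 (show negT (coQ a) = coQ a by rw [← (hσ a).2, ha])
    exact ⟨ArSing.xMap k r' E + ArSing.xMap k r' E' * ArSing.y k r',
      ext_co (by rw [hE]; exact (hφ _).1.trans (by rw [(co_eq rfl).1]))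
        (by rw [hE']; exact (hφ _).2.trans (by rw [(co_eq rfl).2]))⟩
  · rintro ⟨w, rfl⟩
    exact ext_co ((hσ _).1.trans (by rw [show φ.toRingHom w = φ w from rfl, (hφ w).1, negT_expand]))
      ((hσ _).2.trans (by rw [show φ.toRingHom w = φ w from rfl, (hφ w).2, negT_expand]))
  · show @Module.Flat (ArSing.ring k r') A _ _ φ.toRingHom.toAlgebra.toModule
    letI := φ.toRingHom.toAlgebra
    let L : (ArSing.ring k r' × ArSing.ring k r') →ₗ[ArSing.ring k r'] A :=
      { toFun := fun p => φ p.1 + φ p.2 * ArSing.x k r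
        map_add' := fun p q => by simp only [Prod.fst_add, Prod.snd_add, map_add]; ring
        map_smul' := fun c p => by
          simp only [Prod.smul_fst, Prod.smul_snd, smul_eq_mul, map_mul, RingHom.id_apply]
          show _ = φ c * _
          ring }
    have hL : ∀ p, coP (L p) = PowerSeries.expand 2 two_ne_zero (coP p.1) + PowerSeries.X * PowerSeries.expand 2 two_ne_zero (coP p.2) ∧
        coQ (L p) = PowerSeries.expand 2 two_ne_zero (coQ p.1) + PowerSeries.X * PowerSeries.expand 2 two_ne_zero (coQ p.2) := fun p => by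
      show coP (φ p.1 + φ p.2 * ArSing.x k r) = _ ∧ coQ (φ p.1 + φ p.2 * ArSing.x k r) = _
      rw [(co_add _ _).1, (co_add _ _).2, (co_mul _ _).1, (co_mul _ _).2, co_x.1, co_x.2, (hφ _).1, (hφ _).2, (hφ _).1, (hφ _).2]
      constructor <;> ring
    refine Module.Flat.of_linearEquiv (LinearEquiv.ofBijective L ⟨(injective_iff_map_eq_zero L).2 fun p hp => ?_, fun z => ?_⟩).symm
    · have h1 := (hL p).1
      have h2 := (hL p).2
      rw [hp, ← map_zero (algebraMap k A), (co_algebraMap _).1, map_zero] at h1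
      rw [hp, ← map_zero (algebraMap k A), (co_algebraMap _).2] at h2
      obtain ⟨a1, b1⟩ := eq_zero_of_even_odd h1.symm
      obtain ⟨a2, b2⟩ := eq_zero_of_even_odd h2.symm
      refine Prod.ext ?_ ?_
      · rw [co_spec p.1, a1, a2]; simp
      · rw [co_spec p.2, b1, b2]; simp
    · obtain ⟨E, O, hP⟩ := exists_even_odd (coP z)
      obtain ⟨E', O', hQ⟩ := exists_even_odd (coQ z)
      refine ⟨(ArSing.xMap k r' E + ArSing.xMap k r' E' * ArSing.y k r',
        ArSing.xMap k r' O + ArSing.xMap k r' O' * ArSing.y k r'), ext_co ?_ ?_⟩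
      · rw [(hL _).1, hP, (co_eq rfl).1, (co_eq rfl).1]
      · rw [(hL _).2, hQ, (co_eq rfl).2, (co_eq rfl).2]
  · intro I hI
    refine ne_top_of_le_ne_top (IsLocalRing.maximalIdeal.isMaximal A).ne_top (Ideal.map_le_iff_le_comap.2 fun w hw => ?_)
    rw [Ideal.mem_comap, mem_maximalIdeal]
    have h0 : PowerSeries.constantCoeff (coP w) = 0 :=
      mem_maximalIdeal.1 (IsLocalRing.le_maximalIdeal hI.ne_top hw)
    show PowerSeries.constantCoeff (coP (φ w)) = 0
    rw [(hφ w).1, ← PowerSeries.coeff_zero_eq_constantCoeff_apply, coeff_expand_two, if_pos (dvd_zero 2),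
      Nat.zero_div, PowerSeries.coeff_zero_eq_constantCoeff_apply, h0]
  · let π := Ideal.Quotient.mk (Ideal.span {(PowerSeries.X : PS) ^ 2})
    have hπ : π PowerSeries.X * π PowerSeries.X = 0 := by
      rw [← map_mul, ← sq]; exact Ideal.Quotient.eq_zero_iff_mem.2 (Ideal.mem_span_singleton_self _)
    let f : A →+* PS ⧸ Ideal.span {(PowerSeries.X : PS) ^ 2} :=
      { toFun := fun z => π (PowerSeries.C (ev0 z) + PowerSeries.C (cy z) * PowerSeries.X)
        map_one' := by rw [map_one, ← map_one (algebraMap k A), cy_algebraMap]; simp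
        map_mul' := fun z w => by
          simp only [map_mul ev0, cy_mul, map_add, map_mul]
          linear_combination (-(π (PowerSeries.C (cy z)) * π (PowerSeries.C (cy w)))) * hπ
        map_zero' := by rw [map_zero, ← map_zero (algebraMap k A), cy_algebraMap]; simp
        map_add' := fun z w => by rw [map_add ev0, cy_add]; simp only [map_add, map_mul]; ring }
    rw [hspan, length_quot 2 f (fun q => ?_) _ (Ideal.ext fun z => ⟨fun hz => ?_, fun hz => ?_⟩)]
    · rfl
    · obtain ⟨P, rfl⟩ := Ideal.Quotient.mk_surjective q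
      refine ⟨algebraMap k A (PowerSeries.coeff 0 P) + algebraMap k A (PowerSeries.coeff 1 P) * ArSing.y k r, ?_⟩
      show π _ = _
      rw [map_add ev0, map_mul ev0, ev0_y, mul_zero, add_zero, AlgHom.commutes, cy_add, cy_smul, cy_algebraMap,
        cy_y, zero_add, mul_one, Algebra.algebraMap_self, RingHom.id_apply, Ideal.Quotient.eq, Ideal.mem_span_singleton,
        PowerSeries.X_pow_dvd_iff]
      intro i hi
      rcases (show i = 0 ∨ i = 1 by omega) with rfl | rfl <;> simp
    · have h := PowerSeries.X_pow_dvd_iff.1 (Ideal.mem_span_singleton.1 (Ideal.Quotient.eq_zero_iff_mem.1 hz))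
      have h0 : PowerSeries.constantCoeff (coP z) = 0 := by simpa [ev0] using h 0 (by omega)
      have h1 : PowerSeries.constantCoeff (coQ z) = 0 := by simpa [cy] using h 1 (by omega)
      obtain ⟨P', hP'⟩ := PowerSeries.X_dvd_iff.2 h0
      obtain ⟨Q', hQ'⟩ := PowerSeries.X_dvd_iff.2 h1
      refine Ideal.mem_span_singleton'.2 ⟨ArSing.xMap k r P' + ArSing.xMap k r Q' * ArSing.y k r, ?_⟩
      conv_rhs => rw [co_spec z, hP', hQ']
      simp only [map_mul, xMap_X]; ring
    · obtain ⟨c, rfl⟩ := Ideal.mem_span_singleton'.1 hz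
      rw [RingHom.mem_ker]
      show π _ = 0
      rw [map_mul ev0, ev0_x, cy_mul, cy_x, ev0_x]; simp

/-- `x ↦ -x`, `y ↦ -y`. -/
theorem main_neg_x_y {r' : ℕ} (σ : A ≃ₐ[k] A) (hx : σ (ArSing.x k r) = -ArSing.x k r)
    (hy : σ (ArSing.y k r) = -ArSing.y k r) (hr : 1 ≤ r)
    (φ : ArSing.ring k r' →ₐ[k] A) (hφx : φ (ArSing.x k r') = ArSing.x k r ^ 2)
    (hφy : φ (ArSing.y k r') = ArSing.x k r * ArSing.y k r) :
    (∀ a : A, σ a = a ↔ a ∈ φ.range) ∧ Function.Injective φ ∧ ¬ φ.toRingHom.Flat ∧
    Module.length A (A ⧸ Ideal.span (Set.range fun a : A => σ a - a)) = 1 ∧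
    ¬ (∃ g : A, g ∈ nonZeroDivisors A ∧ Ideal.span (Set.range fun a : A => σ a - a) = Ideal.span {g}) := by
  have h2 : (2 : k) ≠ 0 := two_ne
  have hσ : ∀ z, coP (σ z) = negT (coP z) ∧ coQ (σ z) = -negT (coQ z) := fun z => by
    have := sigma_x σ hx (-1) (hy.trans (by rw [algebraMap_neg_one]; ring)) z
    simpa using this
  have hφ : ∀ w, coP (φ w) = PowerSeries.expand 2 two_ne_zero (coP w) ∧
      coQ (φ w) = PowerSeries.X * PowerSeries.expand 2 two_ne_zero (coQ w) := fun w => by
    have := phi_co φ hφx 0 PowerSeries.X (by rw [hφy, map_zero, zero_add, xMap_X]) w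
    exact ⟨by simpa using this.1, by rw [this.2]; ring⟩
  have two_zero : ∀ F : PS, F + F = 0 → F = 0 := fun F h => PowerSeries.ext fun i => by
    have := congrArg (PowerSeries.coeff i) h
    rw [map_add, map_zero] at this
    rw [map_zero]
    exact (mul_eq_zero.1 (show (2 : k) * PowerSeries.coeff i F = 0 by linear_combination this)).resolve_left h2
  have hspan : Ideal.span (Set.range fun a : A => σ a - a) = IsLocalRing.maximalIdeal A := by
    refine le_antisymm (Ideal.span_le.2 ?_) fun z hz => ?_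
    · rintro _ ⟨a, rfl⟩
      rw [SetLike.mem_coe, mem_maximalIdeal]
      show PowerSeries.constantCoeff (coP _) = 0
      rw [(co_sub _ _).1, (hσ a).1, map_sub,
        show PowerSeries.constantCoeff (negT (coP a)) = PowerSeries.constantCoeff (coP a) from by
          show PowerSeries.constantCoeff (PowerSeries.rescale (-1 : k) (coP a)) = _
          rw [← PowerSeries.coeff_zero_eq_constantCoeff_apply, PowerSeries.coeff_rescale]; simp, sub_self]
    · have h22 : algebraMap k A 2⁻¹ * 2 = 1 := by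
        rw [← map_ofNat (algebraMap k A) 2, ← map_mul, inv_mul_cancel₀ h2, map_one]
      have hmx : ArSing.x k r ∈ Ideal.span (Set.range fun a : A => σ a - a) := by
        convert (Ideal.span (Set.range fun a : A => σ a - a)).mul_mem_left (algebraMap k A (-2⁻¹))
          (Ideal.subset_span ⟨ArSing.x k r, rfl⟩) using 1
        simp only [hx, map_neg]
        linear_combination (-(ArSing.x k r)) * h22
      have hmy : ArSing.y k r ∈ Ideal.span (Set.range fun a : A => σ a - a) := by
        convert (Ideal.span (Set.range fun a : A => σ a - a)).mul_mem_left (algebraMap k A (-2⁻¹))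
          (Ideal.subset_span ⟨ArSing.y k r, rfl⟩) using 1
        simp only [hy, map_neg]
        linear_combination (-(ArSing.y k r)) * h22
      have h0 : PowerSeries.constantCoeff (coP z) = 0 := mem_maximalIdeal.1 hz
      obtain ⟨P', hP'⟩ := PowerSeries.X_dvd_iff.2 h0
      rw [co_spec z, hP', map_mul, xMap_X]
      exact add_mem (Ideal.mul_mem_right _ _ hmx) (Ideal.mul_mem_left _ _ hmy)
  refine ⟨fun a => ⟨fun ha => ?_, ?_⟩, (injective_iff_map_eq_zero φ).2 fun w hw => ?_, fun hflat => ?_, ?_, ?_⟩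
  · have h1 := (hσ a).1
    have h2 := (hσ a).2
    rw [ha] at h1 h2
    obtain ⟨E, O, hP⟩ := exists_even_odd (coP a)
    obtain ⟨E', O', hQ⟩ := exists_even_odd (coQ a)
    rw [hP, map_add, map_mul, negT_X, negT_expand, negT_expand] at h1
    rw [hQ, map_add, map_mul, negT_X, negT_expand, negT_expand] at h2
    have hO := (eq_zero_of_even_odd (E := 0) (O := O + O) (by rw [map_zero, map_add]; linear_combination h1)).2
    have hE := (eq_zero_of_even_odd (E := E' + E') (O := 0) (by rw [map_zero, map_add]; linear_combination h2)).1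
    refine ⟨ArSing.xMap k r' E + ArSing.xMap k r' O' * ArSing.y k r', ext_co ?_ ?_⟩
    · show coP (φ _) = _
      rw [(hφ _).1, (co_eq rfl).1, hP, two_zero O hO, map_zero, mul_zero, add_zero]
    · show coQ (φ _) = _
      rw [(hφ _).2, (co_eq rfl).2, hQ, two_zero E' hE, map_zero, zero_add]
  · rintro ⟨w, rfl⟩
    change σ (φ w) = φ w
    exact ext_co ((hσ _).1.trans (by rw [(hφ w).1, negT_expand]))
      ((hσ _).2.trans (by rw [(hφ w).2, map_mul, negT_X, negT_expand]; ring))
  · have h1 := (hφ w).1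
    have h2 := (hφ w).2
    rw [hw, ← map_zero (algebraMap k A), (co_algebraMap _).1, map_zero] at h1
    rw [hw, ← map_zero (algebraMap k A), (co_algebraMap _).2] at h2
    have a := (eq_zero_of_even_odd (E := coP w) (O := coQ w) (by rw [← h1, ← h2, add_zero])).1
    have b := (eq_zero_of_even_odd (E := coP w) (O := coQ w) (by rw [← h1, ← h2, add_zero])).2
    rw [co_spec w, a, b]; simp
  · letI := φ.toRingHom.toAlgebra
    haveI : Module.Flat (ArSing.ring k r') A := hflat
    obtain ⟨l, a, y, hy', hrel⟩ := Module.Flat.isTrivialRelation_of_sum_smul_eq_zero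
      (f := ![ArSing.y k r', -ArSing.x k r']) (x := ![ArSing.x k r, ArSing.y k r]) (by
        rw [Fin.sum_univ_two]
        show φ (ArSing.y k r') * ArSing.x k r + φ (-ArSing.x k r') * ArSing.y k r = 0
        rw [map_neg, hφy, hφx]; ring)
    by_cases hu : ∃ j, ev0 (a 0 j) ≠ 0
    · obtain ⟨j, hj⟩ := hu
      have h := congrArg cy (hrel j)
      rw [Fin.sum_univ_two] at h
      simp only [Matrix.cons_val_zero, Matrix.cons_val_one, cy_add, cy_mul, ev0_y, cy_y, map_neg, ev0_x, neg_zero,
        zero_mul, zero_add, one_mul] at h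
      have hc : cy (-ArSing.x k r') = 0 := by
        have := cy_add (ArSing.x k r') (-ArSing.x k r')
        rw [add_neg_cancel, ← map_zero (algebraMap k (ArSing.ring k r')), cy_algebraMap, cy_x, zero_add] at this
        exact this.symm
      rw [hc, zero_mul, add_zero] at h
      refine hj (h.trans ?_)
      rw [← map_zero (algebraMap k (ArSing.ring k r')), cy_algebraMap]
    · push Not at hu
      have hlin : ∀ w : ArSing.ring k r', ev0 w = 0 → ev0 (φ w) = 0 ∧ cx (φ w) = 0 := by
        intro w hw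
        constructor
        · show PowerSeries.constantCoeff (coP (φ w)) = 0
          rw [(hφ w).1, ← PowerSeries.coeff_zero_eq_constantCoeff_apply, coeff_expand_two, if_pos (dvd_zero 2)]
          simpa [ev0] using hw
        · rw [cx, (hφ w).1, coeff_expand_two, if_neg (by omega)]
      have hx1 : cx (ArSing.x k r) = ∑ j, cx (φ (a 0 j) * y j) := by
        have h := hy' 0
        simp only [Matrix.cons_val_zero] at h
        rw [h]
        exact map_sum (AddMonoidHom.mk' (cx (k := k) (r := r)) cx_add) _ _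
      rw [cx_x, Finset.sum_eq_zero fun j _ => by
        rw [cx_mul hr, (hlin _ (hu j)).1, (hlin _ (hu j)).2]; ring] at hx1
      exact one_ne_zero hx1
  · let π := Ideal.Quotient.mk (Ideal.span {(PowerSeries.X : PS) ^ 1})
    let f : A →+* PS ⧸ Ideal.span {(PowerSeries.X : PS) ^ 1} :=
      (π.comp (algebraMap k PS)).comp ev0.toRingHom
    rw [hspan, length_quot 1 f (fun q => ?_) _ (Ideal.ext fun z => ?_)]
    · rfl
    · obtain ⟨P, rfl⟩ := Ideal.Quotient.mk_surjective q
      refine ⟨algebraMap k A (PowerSeries.constantCoeff P), ?_⟩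
      show π (algebraMap k PS (ev0 _)) = _
      rw [AlgHom.commutes, Ideal.Quotient.eq, pow_one, Ideal.mem_span_singleton, PowerSeries.X_dvd_iff,
        ← PowerSeries.C_eq_algebraMap]
      simp
    · rw [RingHom.mem_ker, mem_maximalIdeal]
      show π (algebraMap k PS (ev0 z)) = 0 ↔ _
      rw [Ideal.Quotient.eq_zero_iff_mem, pow_one, Ideal.mem_span_singleton, PowerSeries.X_dvd_iff,
        ← PowerSeries.C_eq_algebraMap, PowerSeries.constantCoeff_C]
  · rintro ⟨g, -, hg⟩
    rw [hspan] at hg
    have hg0 : ev0 g = 0 := mem_maximalIdeal.1 (hg ▸ Ideal.mem_span_singleton_self g)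
    obtain ⟨u, hu⟩ := Ideal.mem_span_singleton'.1 (hg ▸ mem_maximalIdeal.2 (ev0_x (k := k) (r := r)))
    obtain ⟨v, hv⟩ := Ideal.mem_span_singleton'.1 (hg ▸ mem_maximalIdeal.2 (ev0_y (k := k) (r := r)))
    have a1 := congrArg cx hu
    have a2 := congrArg cy hu
    have b2 := congrArg cy hv
    rw [cx_mul hr, cx_x, hg0, mul_zero, add_zero] at a1
    rw [cy_mul, cy_x, hg0, mul_zero, add_zero] at a2
    rw [cy_mul, cy_y, hg0, mul_zero, add_zero] at b2
    rcases mul_eq_zero.1 a2 with h | h
    · rw [h, zero_mul] at a1; exact zero_ne_one a1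
    · rw [h, mul_zero] at b2; exact zero_ne_one b2

end Groth.Agent.Lib.ArSing99
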