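import Groth.Agent.Lib.ArSing99.Invol
import Groth.Agent.S14080

/-!
# Involutions of `k[[x, y]]/(y^2 - x)`
-/

set_option autoImplicit false

noncomputable section

universe u

namespace Groth.Agent.Lib.ArSing99

variable {k : Type u} [Field k] [NeZero (2 : k)]

local notation "A₀" => ArSing.ring k 0

theorem conj_normal_zero (σ : A₀ ≃ₐ[k] A₀) (hσ : ∀ z, σ (σ z) = z) (hne : σ ≠ AlgEquiv.refl) :
    ∃ φ : A₀ ≃ₐ[k] A₀, φ.symm (σ (φ (ArSing.x k 0))) = ArSing.x k 0 ∧
      φ.symm (σ (φ (ArSing.y k 0))) = -ArSing.y k 0 := by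
  let b := br 0 (1 : k) (one_pow 2)
  have hb : Function.Bijective b := by
    constructor
    · refine (injective_iff_map_eq_zero b).2 fun z hz => ?_
      have h := fun m => br_co (r := 0) (1 : k) (one_pow 2) z m
      rw [show br 0 (1 : k) (one_pow 2) z = 0 from hz] at h
      simp only [map_zero] at h
      rw [co_spec z, show coP z = 0 from PowerSeries.ext fun i => ?_,
        show coQ z = 0 from PowerSeries.ext fun i => ?_]
      · simp
      · have h := h (2 * i + 1)
        simp [show ¬ 2 ∣ 2 * i + 1 by omega] at h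
        simpa using h.symm
      · have h := h (2 * i)
        simp [show ¬ (0 + 1 ≤ 2 * i ∧ 2 ∣ 2 * i - (0 + 1)) by omega] at h
        simpa using h.symm
    · intro f
      refine ⟨ArSing.xMap k 0 (PowerSeries.mk fun i => PowerSeries.coeff (2 * i) f) +
        ArSing.xMap k 0 (PowerSeries.mk fun i => PowerSeries.coeff (2 * i + 1) f) * ArSing.y k 0,
        PowerSeries.ext fun m => ?_⟩
      rw [coeff_br, PowerSeries.coeff_mk, PowerSeries.coeff_mk]
      rcases Nat.even_or_odd' m with ⟨i, rfl | rfl⟩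
      · rw [if_pos (by omega), if_neg (by omega), add_zero, Nat.mul_div_cancel_left i two_pos]
      · rw [if_neg (by omega), if_pos ⟨by omega, by simp⟩, zero_add, one_mul, Nat.add_sub_cancel,
          Nat.mul_div_cancel_left i two_pos]
  let E : A₀ ≃ₐ[k] PowerSeries k := AlgEquiv.ofBijective b hb
  have hEy : E (ArSing.y k 0) = PowerSeries.X := by
    refine (br_y (r := 0) (1 : k) (one_pow 2)).trans ?_; simp
  have hEx : E (ArSing.x k 0) = PowerSeries.X ^ 2 := br_x (r := 0) (1 : k) (one_pow 2)
  let τ := (E.symm.trans σ).trans E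
  obtain ⟨hξ, ψ, -, hψ⟩ := S14080.result k two_ne τ (fun f => by simp [τ, hσ])
  set ξ := PowerSeries.coeff 1 (τ PowerSeries.X)
  have hξ' : ξ = -1 := by
    refine ((sq_eq_one_iff).1 hξ).resolve_left fun h1 => hne (AlgEquiv.ext fun z => ?_)
    have h := hψ (ψ.symm (E z))
    rw [h1, PowerSeries.rescale_one, RingHom.id_apply, AlgEquiv.apply_symm_apply, EmbeddingLike.apply_eq_iff_eq] at h
    simpa [τ] using h
  refine ⟨(E.trans ψ).trans E.symm, ?_, ?_⟩ <;> apply E.injective
  · have h := hψ (PowerSeries.X ^ 2)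
    simp [τ] at h
    simp [hEx, h, hξ', PowerSeries.rescale_X]
  · have h := hψ PowerSeries.X
    simp [τ] at h
    simp [hEy, h, hξ', PowerSeries.rescale_X]

end Groth.Agent.Lib.ArSing99
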